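import Cfsg.Agent.TorusClosure.Group
import Cfsg.Agent.FusGenerate.GlaubermanCenter
import Cfsg.Agent.Fusion.Alperin.Criteria
import Cfsg.Agent.Eq.Def_FusionSystem

/-!
A subgroup `T` of `Z(S)` stabilised by the normaliser system of `J(S)` is normal in the system, unless some
element of `Aut_F(T)` of order prime to `p` is transitive on the nontrivial elements of its commutator.
-/

set_option autoImplicit false
set_option linter.unusedSectionVars false

namespace CfsgLib.TorusClosure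

open Cfsg Cfsg.FusionSystem CfsgLib.Fus CfsgLib.WeakClosureJ

universe u

variable {Ω : Type u} [Group Ω] {S : Subgroup Ω} [Finite S] {p : ℕ} [Fact p.Prime]

/-- `φ` maps the elements of `T` in its source into `T`. -/
def Keeps {P : Subgroup Ω} (T : Subgroup Ω) (φ : P →* Ω) : Prop := ∀ y : P, (y : Ω) ∈ T → φ y ∈ T

theorem Keeps.back {F : Cfsg.FusionSystem S} {T P : Subgroup Ω} (hTS : T ≤ S) (hTP : T ≤ P)
    {φ : P →* Ω} (hφ : φ ∈ F.Hom P) (h : Keeps T φ) {y : P} (hy : φ y ∈ T) : (y : Ω) ∈ T := by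
  haveI := finite_of_le hTS
  obtain ⟨t, ht, hte⟩ := (Fusion.Alperin.subgroupOf_map_eq (F.injective_of_mem hφ) hTP h).ge hy
  exact F.injective_of_mem hφ hte ▸ ht

theorem abJ_map_range {G H : Type u} [Group G] [Group H] {T : Subgroup G} (f : T →* H)
    (hf : Function.Injective f) :
    (abJ (⊤ : Subgroup T)).map f = abJ f.range := by
  rw [← abJ_map f hf, ← MonoidHom.range_eq_map]

/-- The induction. -/
theorem keeps_of_control (hS : IsPGroup p S) {F : Cfsg.FusionSystem S} (hF : F.IsSaturated p)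
    {T : Subgroup Ω} (hTZ : T ≤ S ⊓ Subgroup.centralizer (S : Set Ω))
    (htopJ : ∀ β : abJ S →* Ω, β ∈ F.Hom (abJ S) → β.range = abJ S → Keeps T β)
    (hctrl : ∀ (Q : Subgroup Ω) (hQ : F.IsFullyNormalized Q), F.IsCentric Q →
      ∀ (L : Type u) [Group L] [Finite L] (ι : normalizerIn S Q →* L),
        (normalizerSystem F Q hQ.1).IsModel p L ι → ∀ P0 : Sylow p L, (P0 : Subgroup L) = ι.range →
          (T.subgroupOf (normalizerIn S Q)).map ι ≤ Cfsg.pCore p L →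
          Subgroup.normalizer (abJ (P0 : Subgroup L) : Set L) ≤
            Subgroup.normalizer ((T.subgroupOf (normalizerIn S Q)).map ι : Set L) →
          ∀ l : L, l ∈ Subgroup.normalizer ((T.subgroupOf (normalizerIn S Q)).map ι : Set L)) :
    F.IsNormal T := by
  classical
  have hTS : T ≤ S := hTZ.trans inf_le_left
  haveI := finite_of_le hTS
  have hTc : ∀ t ∈ T, ∀ s ∈ S, s * t = t * s := fun t ht => Subgroup.mem_centralizer_iff.1 (hTZ ht).2
  have hTnorm : ∀ {Q : Subgroup Ω}, Q ≤ S → T ≤ normalizerIn S Q := fun hQ t ht =>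
    centralizerIn_le_normalizerIn _ ⟨hTS ht, fun y hy => hTc t ht y (hQ hy)⟩
  have hTU : ∀ {Q : Subgroup Ω}, Q ≤ S → T ≤ Q → T ≤ abJ Q := by
    intro Q hQ hTQ t ht
    haveI := finite_of_le hQ
    have h1 : (⟨t, hTQ ht⟩ : Q) ∈ abJ (⊤ : Subgroup Q) :=
      mem_abJ_of_central (Subgroup.mem_top _) fun y _ => Subtype.ext (hTc t ht y (hQ y.2))
    have h2 := abJ_map_range Q.subtype Q.subtype_injective
    rw [Q.range_subtype] at h2
    exact h2.le ⟨_, h1, rfl⟩
  suffices haut : ∀ d : ℕ, ∀ Q : Subgroup Ω, Q ≤ S → Nat.card S - Nat.card (normalizerIn S Q) = d →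
      T ≤ Q → ∀ φ : Q →* Ω, φ ∈ F.Hom Q → φ.range = Q → Keeps T φ by
    refine Fusion.Alperin.isNormal_criterion hS hF hTS (fun R hR t ht => ?_) fun R hR α hα x hx => ?_
    · exact centralizerIn_le_of_centric hR.centric ⟨hTS ht, fun y hy => hTc t ht y (hR.centric.1 hy)⟩
    · have hTR : T ≤ R := fun t ht =>
        centralizerIn_le_of_centric hR.centric ⟨hTS ht, fun y hy => hTc t ht y (hR.centric.1 hy)⟩
      exact haut _ R hR.centric.1 rfl hTR _ ((mem_autGroup_iff F hR.centric.1).1 hα)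
        (range_subtype_comp α) x hx
  intro d
  induction d using Nat.strong_induction_on with
  | _ d ih =>
  intro Q hQ hd hTQ φ hφ hφr
  set m := Nat.card (normalizerIn S Q) with hm
  have hle : ∀ R : Subgroup Ω, Nat.card (normalizerIn S R) ≤ Nat.card S := fun R =>
    Subgroup.card_le_of_le (normalizerIn_le R)
  have hIH : ∀ R : Subgroup Ω, R ≤ S → m < Nat.card (normalizerIn S R) →
      T ≤ R → ∀ φ : R →* Ω, φ ∈ F.Hom R → φ.range = R → Keeps T φ := by
    intro R hR hlt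
    have := hle R
    have := hle Q
    exact ih _ (by omega) R hR rfl
  -- maps with large sources
  have hbig : ∀ k : ℕ, ∀ P : Subgroup Ω, P ≤ S → Nat.card S - Nat.card P = k → m ≤ Nat.card P →
      T ≤ P → ∀ φ : P →* Ω, φ ∈ F.Hom P → Keeps T φ := by
    intro k
    induction k using Nat.strong_induction_on with
    | _ k ihk =>
    intro P hPS hk hmP hTP φ hφ
    by_cases htopP : P = S
    · subst htopP
      have hr : φ.range = P :=
        Subgroup.eq_of_le_of_card_ge (range_le F hφ) (isConj_card (isConj_of_hom F hφ)).le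
      have hUS : abJ P ≤ P := abJ_le P
      have hU : (φ.comp (Subgroup.inclusion hUS)).range = abJ P := by
        have h1 := abJ_map_range φ (F.injective_of_mem hφ)
        have h2 := abJ_map_range P.subtype P.subtype_injective
        rw [hr] at h1
        rw [P.range_subtype] at h2
        ext y
        constructor
        · rintro ⟨t, rfl⟩
          obtain ⟨w, hw, hwt⟩ := h2.ge t.2
          exact h1.le ⟨w, hw, congrArg φ (Subtype.ext hwt : w = Subgroup.inclusion hUS t)⟩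
        · intro hy
          obtain ⟨w, hw, rfl⟩ := h1.ge hy
          exact ⟨⟨w, h2.le ⟨w, hw, rfl⟩⟩, rfl⟩
      intro y hy
      exact htopJ _ (restrict_mem F hφ hUS) hU ⟨y, hTU le_rfl hTP hy⟩ hy
    obtain ⟨Q1, hPQ1, hQ1⟩ := exists_fullyNormalized F hPS
    have hnormbig : ∀ {R : Subgroup Ω}, R ≤ S → Nat.card P = Nat.card R →
        Nat.card P < Nat.card (normalizerIn S R) := by
      intro R hR hcard
      have hne : R ≠ S := fun h => htopP (Subgroup.eq_of_le_of_card_ge hPS (by rw [hcard, h]))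
      obtain ⟨g, hg, hgT⟩ := Fusion.Alperin.exists_normalizing_not_mem hS hR hne
      exact hcard ▸ Fusion.Alperin.card_lt_of_le_of_mem (normalizerIn_le R) (le_normalizerIn hR) hg hgT
    have hψkeep : ∀ {R : Subgroup Ω} (_ : R ≤ S), Nat.card P = Nat.card R →
        ∀ ψ ∈ F.Hom (normalizerIn S R), Keeps T ψ := by
      intro R hR hcard ψ hψ
      have h1 := hnormbig hR hcard
      have h2 := hle R
      exact ihk _ (by omega) _ (normalizerIn_le R) rfl (by omega) (hTnorm hR) ψ hψ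
    obtain ⟨χ, hχ, hχr, ψ, hψ, hψe⟩ := exists_normalizer_map_fn hS hF hQ1 hPQ1
    have hφr' : φ.range ≤ S := range_le F hφ
    have hcardr : Nat.card P = Nat.card φ.range := isConj_card (isConj_of_hom F hφ)
    obtain ⟨χ', hχ', hχ'r, ψ', hψ', hψ'e⟩ :=
      exists_normalizer_map_fn hS hF hQ1 (isConj_trans (isConj_symm (isConj_of_hom F hφ)) hPQ1)
    obtain ⟨χi, hχi, hχir, hχiχ, -⟩ := exists_inv F hχ hχr
    have h1 : ∀ y, χi y ∈ P := fun y => hχir.le ⟨y, rfl⟩
    obtain ⟨α, hαdef⟩ : ∃ α : Q1 →* Ω, α =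
        χ'.comp ((φ.comp (χi.codRestrict P h1)).codRestrict φ.range fun y => ⟨_, rfl⟩) := ⟨_, rfl⟩
    have hαF : α ∈ F.Hom Q1 := hαdef ▸ F.comp_mem (F.comp_mem hχi hφ h1) hχ' _
    have hαr : α.range = Q1 := by
      haveI : Finite Q1 := finite_of_le hQ1.1
      refine Subgroup.eq_of_le_of_card_ge ?_ (isConj_card (isConj_of_hom F hαF)).le
      rintro _ ⟨y, rfl⟩
      rw [hαdef]
      exact hχ'r.le ⟨_, rfl⟩
    have hψT : Keeps T ψ := hψkeep hPS rfl ψ hψ
    have hψ'T : Keeps T ψ' := hψkeep hφr' hcardr ψ' hψ'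
    have hTQ1 : T ≤ Q1 := by
      intro t ht
      obtain ⟨y, hy, rfl⟩ := (Fusion.Alperin.subgroupOf_map_eq (Q := T) (F.injective_of_mem hψ)
        (hTnorm hPS) (fun y hy => hψT y hy)).ge ht
      exact hχr.le ⟨⟨y, hTP hy⟩, (hψe ⟨y, hTP hy⟩ y.2).symm⟩
    have hlt : m < Nat.card (normalizerIn S Q1) :=
      lt_of_le_of_lt hmP (hnormbig hQ1.1 (isConj_card hPQ1))
    have hαT : Keeps T α := hIH Q1 hQ1.1 hlt hTQ1 α hαF hαr
    intro y hy
    have hχy : χ y ∈ T := (hψe y (hTnorm hPS hy)) ▸ hψT _ hy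
    have hyQ : χ y ∈ Q1 := hχr.le ⟨y, rfl⟩
    have e2 : χ' ⟨φ y, ⟨_, rfl⟩⟩ ∈ T := by
      have h2 := hαT ⟨χ y, hyQ⟩ hχy
      rw [hαdef] at h2
      have e1 : χi ⟨χ y, hyQ⟩ = y := hχiχ y hyQ
      have h3 : χ' ⟨φ ⟨χi ⟨χ y, hyQ⟩, h1 _⟩, ⟨_, rfl⟩⟩ ∈ T := h2
      have e3 : (⟨χi ⟨χ y, hyQ⟩, h1 _⟩ : P) = y := Subtype.ext e1
      have e4 : (⟨φ ⟨χi ⟨χ y, hyQ⟩, h1 _⟩, ⟨_, rfl⟩⟩ : φ.range) = ⟨φ y, ⟨_, rfl⟩⟩ :=
        Subtype.ext (congrArg φ e3)
      exact e4 ▸ h3
    rw [← hψ'e ⟨φ y, ⟨_, rfl⟩⟩ (le_normalizerIn hφr' ⟨_, rfl⟩)] at e2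
    exact hψ'T.back hTS (hTnorm hφr') hψ' e2
  -- transport to a fully normalised conjugate
  have move : ∀ {R : Subgroup Ω} (_ : R ≤ S), Nat.card (normalizerIn S R) = m → T ≤ R →
      ∀ θ : R →* Ω, θ ∈ F.Hom R → θ.range = R →
      (∀ R' : Subgroup Ω, F.IsFullyNormalized R' → F.IsConj R R' → Nat.card (normalizerIn S R') = m →
        T ≤ R' → ∀ θ' : R' →* Ω, θ' ∈ F.Hom R' → θ'.range = R' → Keeps T θ') →
      Keeps T θ := by
    intro R hR hRm hTR θ hθ hθr hfn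
    obtain ⟨R', hRR', hR'⟩ := exists_fullyNormalized F hR
    obtain ⟨χ, hχ, hχr, ψ, hψ, hψe⟩ := exists_normalizer_map_fn hS hF hR' hRR'
    have hψT : Keeps T ψ := hbig _ _ (normalizerIn_le R) rfl hRm.ge (hTnorm hR) ψ hψ
    have hχT : Keeps T χ := fun y hy => (hψe y (hTnorm hR hy)) ▸ hψT _ hy
    have hTR' : T ≤ R' := by
      haveI := finite_of_le hTS
      intro t ht
      obtain ⟨y, hy, rfl⟩ := (Fusion.Alperin.subgroupOf_map_eq (F.injective_of_mem hχ) hTR hχT).ge ht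
      exact hχr.le ⟨y, rfl⟩
    obtain ⟨χi, hχi, hχir, hχiχ, -⟩ := exists_inv F hχ hχr
    have h1 : ∀ y, χi y ∈ R := fun y => hχir.le ⟨y, rfl⟩
    obtain ⟨α, hαdef⟩ : ∃ α : R' →* Ω, α =
        χ.comp ((θ.comp (χi.codRestrict R h1)).codRestrict R fun y => hθr.le ⟨_, rfl⟩) := ⟨_, rfl⟩
    have hαF : α ∈ F.Hom R' := hαdef ▸ F.comp_mem (F.comp_mem hχi hθ h1) hχ _
    have hαr : α.range = R' := by
      haveI : Finite R' := finite_of_le hR'.1
      refine Subgroup.eq_of_le_of_card_ge ?_ (isConj_card (isConj_of_hom F hαF)).le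
      rintro _ ⟨y, rfl⟩
      rw [hαdef]
      exact hχr.le ⟨_, rfl⟩
    have hge : m ≤ Nat.card (normalizerIn S R') := hRm ▸ hR'.2 R (isConj_symm hRR')
    have hαT : Keeps T α := by
      rcases eq_or_lt_of_le hge with he | hlt
      · exact hfn R' hR' hRR' he.symm hTR' α hαF hαr
      · exact hIH R' hR'.1 hlt hTR' α hαF hαr
    intro y hy
    have hyR' : χ y ∈ R' := hχr.le ⟨y, rfl⟩
    have h2 := hαT ⟨χ y, hyR'⟩ (hχT y hy)
    rw [hαdef] at h2
    have h3 : χ ⟨θ ⟨χi ⟨χ y, hyR'⟩, h1 _⟩, hθr.le ⟨_, rfl⟩⟩ ∈ T := h2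
    have e3 : (⟨χi ⟨χ y, hyR'⟩, h1 _⟩ : R) = y := Subtype.ext (hχiχ y hyR')
    have h4 := hχT.back hTS hTR hχ h3
    exact e3 ▸ h4
  refine move hQ rfl hTQ φ hφ hφr fun Q1 hQ1 _ hQ1m hTQ1 θ hθ hθr => ?_
  -- extend to the centraliser
  set R := Q1 ⊔ centralizerIn S Q1 with hR
  have hRS : R ≤ S := sup_le hQ1.1 (centralizerIn_le Q1)
  have hRext : R ≤ Cfsg.FusionSystem.extender S Q1 θ :=
    sup_le (le_extender F hθ) centralizerIn_le_extender
  obtain ⟨ψ, hψ, hψe⟩ := exists_ext (fullyNormalized_props hS hF hQ1).2 hθ hθr le_sup_left hRext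
  have hψr : ψ.range = R := by
    haveI : Finite R := finite_of_le hRS
    refine Subgroup.eq_of_le_of_card_ge ?_ (isConj_card (isConj_of_hom F hψ)).le
    rintro _ ⟨y, rfl⟩
    refine map_mem_sup ψ (fun t => ?_) (fun t => ?_) y
    · rw [show Subgroup.inclusion le_sup_left t = Subgroup.inclusion (le_sup_left : Q1 ≤ R) t from rfl,
        hψe]
      exact hθr.le ⟨_, rfl⟩
    · exact map_mem_centralizerIn hθr hψ le_sup_left hψe t.2.2
  have hQR : normalizerIn S Q1 ≤ normalizerIn S R := by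
    intro g hg
    refine ⟨hg.1, Subgroup.mem_normalizer_iff_map_conj_eq.2 ?_⟩
    have key : ∀ g ∈ normalizerIn S Q1, ∀ c ∈ centralizerIn S Q1, g * c * g⁻¹ ∈ centralizerIn S Q1 := by
      intro g hg c hc
      refine ⟨S.mul_mem (S.mul_mem hg.1 hc.1) (S.inv_mem hg.1), fun y hy => ?_⟩
      have h2 := hc.2 _ ((Subgroup.mem_normalizer_iff''.1 hg.2 y).1 hy)
      calc y * (g * c * g⁻¹) = g * ((g⁻¹ * y * g) * c) * g⁻¹ := by group
        _ = g * (c * (g⁻¹ * y * g)) * g⁻¹ := by rw [h2]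
        _ = g * c * g⁻¹ * y := by group
    show R.map (MulAut.conj g).toMonoidHom = R
    rw [hR, Subgroup.map_sup]
    congr 1
    · exact Subgroup.mem_normalizer_iff_map_conj_eq.1 hg.2
    · ext y
      constructor
      · rintro ⟨c, hc, rfl⟩
        exact key g hg c hc
      · intro hy
        exact ⟨g⁻¹ * y * g, by simpa using key g⁻¹ (inv_mem hg) y hy, by simp [mul_assoc]⟩
  have hTR : T ≤ R := hTQ1.trans le_sup_left
  suffices hψT : Keeps T ψ by
    intro y hy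
    exact (hψe y) ▸ hψT (Subgroup.inclusion le_sup_left y) hy
  haveI : Finite (normalizerIn S R) := finite_of_le (normalizerIn_le R)
  rcases eq_or_lt_of_le (hQ1m ▸ Subgroup.card_le_of_le hQR) with hRm | hlt
  swap
  · exact hIH R hRS hlt hTR ψ hψ hψr
  refine move hRS hRm.symm hTR ψ hψ hψr fun D hD hRD hDm hTD α hα hαr => ?_
  -- the centric case
  have hCR : centralizerIn S R ≤ R := (centralizerIn_antitone le_sup_left).trans le_sup_right
  have hDc : F.IsCentric D := by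
    refine isCentric_of_fullyCentralized (fullyCentralized_of_fullyNormalized hS hF hD) ?_
    obtain ⟨χ, hχ, hχr, ξ, hξ, hξe⟩ := exists_normalizer_map_fn hS hF hD hRD
    have hRN := le_normalizerIn (S := S) hRS
    intro c hc
    haveI : Finite (normalizerIn S D) := finite_of_le (normalizerIn_le D)
    obtain ⟨g, -, hg⟩ := exists_preimage_of_card (F.injective_of_mem hξ) le_rfl
      (fun g hg => map_mem_normalizerIn hχr hξ hRN (fun y => hξe y _) hg.2)
      (by rw [hDm, ← hRm]) (centralizerIn_le_normalizerIn D hc)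
    have hgR : (g : Ω) ∈ R := by
      refine hCR ⟨g.2.1, fun y hy => ?_⟩
      have h1 := hc.2 (χ ⟨y, hy⟩) (hχr.le ⟨_, rfl⟩)
      rw [← hg, ← hξe ⟨y, hy⟩ (hRN hy), ← map_mul, ← map_mul] at h1
      exact congrArg Subtype.val (F.injective_of_mem hξ h1)
    rw [← hg, show ξ g = χ ⟨g, hgR⟩ from hξe ⟨g, hgR⟩ g.2]
    exact hχr.le ⟨_, rfl⟩
  set ND := normalizerIn S D with hND
  obtain ⟨L, _, ι, hmodel⟩ : ∃ (L : Type u) (_ : Group L) (ι : ND →* L),
      (normalizerSystem F D hD.1).IsModel p L ι := CfsgLib.FusModel.exists_local_model hS hF hD hDc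
  have hDn := CfsgLib.FusModel.normal_image_of_model hmodel
    (CfsgLib.FusModel.isNormal_normalizer hD.1 fun _ => rfl)
  obtain ⟨hfin, ⟨hinj, hreal⟩, ⟨P0, hP0⟩, -⟩ := id hmodel
  haveI := hfin
  have hDND : D ≤ ND := le_normalizerIn hD.1
  haveI : Finite ND := finite_of_le (normalizerIn_le D)
  have hNDp : IsPGroup p ND := hS.to_le (normalizerIn_le D)
  set T' := (T.subgroupOf ND).map ι with hT'
  have hT'O : T' ≤ Cfsg.pCore p L := by
    rintro _ ⟨t, ht, rfl⟩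
    exact CfsgLib.Constrained.le_pCore hDn ((hNDp.to_subgroup _).map ι) ⟨t, hTD ht, rfl⟩
  have hnorm := hctrl D hD hDc L ι hmodel P0 hP0 hT'O fun n hn => by
    -- `n` induces an automorphism of `U = J(N_S(D))`
    have eU : (abJ (⊤ : Subgroup ND)).map ι = abJ (P0 : Subgroup L) := by
      rw [abJ_map_range ι hinj, hP0]
    have eU' : (abJ (⊤ : Subgroup ND)).map ND.subtype = abJ ND := by
      rw [abJ_map_range ND.subtype ND.subtype_injective, ND.range_subtype]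
    set U := abJ ND with hU
    have hUN : U ≤ ND := abJ_le ND
    have hUS' : U ≤ S := hUN.trans (normalizerIn_le D)
    have hmemU : ∀ u : U, Subgroup.inclusion hUN u ∈ abJ (⊤ : Subgroup ND) := by
      intro u
      obtain ⟨t, ht, hte⟩ := eU'.ge u.2
      have e : t = Subgroup.inclusion hUN u := Subtype.ext hte
      exact e ▸ ht
    have hnU : ∀ u : U, ∃ t ∈ abJ (⊤ : Subgroup ND), ι t = n * ι (Subgroup.inclusion hUN u) * n⁻¹ := by
      intro u
      have h1 := (Subgroup.mem_normalizer_iff.1 hn _).1 (eU ▸ ⟨_, hmemU u, rfl⟩ :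
        ι (Subgroup.inclusion hUN u) ∈ abJ (P0 : Subgroup L))
      exact eU.ge h1
    have hlJ : ∀ u : U, n * ι (Subgroup.inclusion hUN u) * n⁻¹ ∈ ι.range := fun u =>
      let ⟨t, _, ht⟩ := hnU u
      ⟨t, ht⟩
    obtain ⟨β, hβ⟩ : ∃ β : U →* ND, ∀ u, ι (β u) = n * ι (Subgroup.inclusion hUN u) * n⁻¹ :=
      ⟨(MonoidHom.ofInjective hinj).symm.toMonoidHom.comp
        (((MulAut.conj n).toMonoidHom.comp (ι.comp (Subgroup.inclusion hUN))).codRestrict ι.range hlJ),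
        fun u => by
          show ι ((MonoidHom.ofInjective hinj).symm ⟨_, hlJ u⟩) = _
          rw [MonoidHom.apply_ofInjective_symm]⟩
    have hβF : ND.subtype.comp β ∈ F.Hom U :=
      ((hreal U hUN _ fun u => (β u).2).2 ⟨n, fun u => hβ u⟩).1
    have hβr : (ND.subtype.comp β).range = U := by
      haveI : Finite U := finite_of_le hUS'
      refine Subgroup.eq_of_le_of_card_ge ?_ (isConj_card (isConj_of_hom F hβF)).le
      rintro _ ⟨u, rfl⟩
      obtain ⟨t, ht, hte⟩ := hnU u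
      rw [← hβ u] at hte
      exact eU'.le ⟨t, ht, congrArg Subtype.val (hinj hte)⟩
    have hTU' : T ≤ U := hTU (normalizerIn_le D) (hTD.trans hDND)
    have hβT : Keeps T (ND.subtype.comp β) := by
      by_cases hNS : ND = S
      · have key : ∀ R : Subgroup Ω, R = S → ∀ γ : abJ R →* Ω,
            γ ∈ F.Hom (abJ R) → γ.range = abJ R → Keeps T γ := by
          rintro R rfl γ hγ hγr
          exact htopJ γ hγ hγr
        exact key ND hNS _ hβF hβr
      · obtain ⟨g, hg, hgN⟩ := Fusion.Alperin.exists_normalizing_not_mem hS (normalizerIn_le D) hNS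
        refine hIH U hUS' ?_ hTU' _ hβF hβr
        refine lt_of_lt_of_le (hDm ▸ Fusion.Alperin.card_lt_of_le_of_mem (normalizerIn_le ND)
          (le_normalizerIn (normalizerIn_le D)) hg hgN) ?_
        haveI : Finite (normalizerIn S U) := finite_of_le (normalizerIn_le U)
        exact Subgroup.card_le_of_le fun y hy => ⟨hy.1, Subgroup.mem_normalizer_iff_map_conj_eq.2 (by
          show cj y (abJ ND) = abJ ND
          rw [← abJ_cj, cj_eq_of_mem_normalizer hy.2])⟩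
    refine WeakClosureJ.mem_normalizer_of_cj_le ?_
    rintro _ ⟨_, ⟨t, ht, rfl⟩, rfl⟩
    have h2 := hβ ⟨t, hTU' ht⟩
    refine ⟨β ⟨t, hTU' ht⟩, hβT ⟨t, hTU' ht⟩ ht, h2.trans ?_⟩
    rfl
  have hαN : α ∈ (normalizerSystem F D hD.1).Hom D := by
    refine ⟨hα, hDND, fun y => hDND (hαr.le ⟨y, rfl⟩), α.comp (Subgroup.inclusion (sup_le le_rfl le_rfl)),
      restrict_mem F hα _, fun y => rfl, ?_⟩
    refine Eq.trans ?_ hαr
    ext y
    constructor
    · rintro ⟨t, -, rfl⟩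
      exact ⟨_, rfl⟩
    · rintro ⟨t, rfl⟩
      exact ⟨⟨t, Subgroup.mem_sup_left t.2⟩, t.2, rfl⟩
  obtain ⟨l, hl⟩ := (hreal D hDND α fun y => hDND (hαr.le ⟨y, rfl⟩)).1 hαN
  intro y hy
  have h6 := hl y
  obtain ⟨t, ht, hte⟩ := (Subgroup.mem_normalizer_iff.1 (hnorm l) _).1
    (⟨⟨y, hDND y.2⟩, hy, rfl⟩ : ι ⟨y, hDND y.2⟩ ∈ T')
  have h8 : (t : Ω) ∈ T := ht
  rwa [congrArg Subtype.val (hinj (hte.trans h6.symm))] at h8

/-- A torus in a local model gives one in the system. -/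
theorem weaklyClosed_or_torus (hp : p ≠ 2) (hS : IsPGroup p S) {F : Cfsg.FusionSystem S}
    (hF : F.IsSaturated p) {T : Subgroup Ω} (hT : T ≤ S ⊓ Subgroup.centralizer (S : Set Ω))
    (htopJ : ∀ β : abJ S →* Ω, β ∈ F.Hom (abJ S) → β.range = abJ S → Keeps T β) :
    F.WeaklyClosed T ∨ ∃ X : Subgroup (MulAut ↥T), X ≤ F.autGroup T ∧ X ≠ ⊥ ∧ IsCyclic ↥X ∧
      (Nat.card ↥X).Coprime p ∧
      ∀ a b : ↥T, a ∈ Subgroup.closure {y : ↥T | ∃ ψ ∈ X, ∃ t : ↥T, y = ψ t * t⁻¹} →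
        b ∈ Subgroup.closure {y : ↥T | ∃ ψ ∈ X, ∃ t : ↥T, y = ψ t * t⁻¹} →
        a ≠ 1 → b ≠ 1 → ∃ ψ ∈ X, ψ a = b := by
  classical
  have hTS : T ≤ S := hT.trans inf_le_left
  rw [or_iff_not_imp_right]
  intro hnoX
  haveI := finite_of_le hTS
  suffices hn : F.IsNormal T by
    refine ⟨hTS, fun φ hφ => ?_⟩
    have h1 := Fusion.Alperin.subgroupOf_map_eq (F.injective_of_mem hφ) le_rfl
      fun x hx => Fusion.Alperin.map_mem_of_isNormal hn hφ hx
    rwa [Subgroup.subgroupOf_self, ← MonoidHom.range_eq_map] at h1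
  refine keeps_of_control hS hF hT htopJ ?_
  intro Q hQ hQc L _ _ ι hm P0 hP0 hO hJ
  obtain ⟨-, ⟨hinj, hreal⟩, -, -⟩ := id hm
  have hTN : T ≤ (normalizerIn S Q) := fun t ht => le_normalizerIn hQ.1
    (centralizerIn_le_of_centric hQc
      ⟨hTS ht, fun y hy => Subgroup.mem_centralizer_iff.1 (hT ht).2 y (hQ.1 hy)⟩)
  refine normal_of_no_torus hp _ L rfl P0 _ hO ?_ hJ ?_
  · rintro r hr _ ⟨t, ht, rfl⟩
    rw [hP0] at hr
    obtain ⟨w, rfl⟩ := hr
    rw [← map_mul, ← map_mul]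
    exact congrArg ι (Subtype.ext (show (w : Ω) * (t : Ω) = t * w from
      Subgroup.mem_centralizer_iff.1 (hT ht).2 w w.2.1))
  rintro ⟨g, hg, ⟨m, hmcop, hgm⟩, ⟨t₁, ht₁, hgt₁⟩, htr⟩
  have him : ∀ t : T, ∃ u : T, ι ⟨u, hTN u.2⟩ = g * ι ⟨t, hTN t.2⟩ * g⁻¹ := by
    intro t
    obtain ⟨u, hu, hue⟩ := (Subgroup.mem_normalizer_iff.1 hg _).1
      (⟨⟨t, hTN t.2⟩, t.2, rfl⟩ : ι ⟨t, hTN t.2⟩ ∈ (T.subgroupOf (normalizerIn S Q)).map ι)
    exact ⟨⟨u, hu⟩, hue⟩
  choose α₀ hα₀ using him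
  have hα₀inj : Function.Injective α₀ := by
    intro a b h
    have h1 := hα₀ a
    rw [h, hα₀ b, mul_left_inj, mul_right_inj] at h1
    exact Subtype.ext (congrArg (fun x : (normalizerIn S Q) => (x : Ω)) (hinj h1).symm)
  let α : MulAut T := MulEquiv.ofBijective
    ({ toFun := α₀
       map_one' := Subtype.ext (congrArg (fun x : (normalizerIn S Q) => (x : Ω)) (hinj ((hα₀ 1).trans (by
          show g * ι (⟨1, hTN T.one_mem⟩ : (normalizerIn S Q)) * g⁻¹ = ι (⟨1, hTN T.one_mem⟩ : (normalizerIn S Q))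
          rw [show (⟨1, hTN T.one_mem⟩ : (normalizerIn S Q)) = 1 from rfl, map_one]; group))) :)
       map_mul' := fun a b => Subtype.ext (congrArg (fun x : (normalizerIn S Q) => (x : Ω)) (hinj (show
          ι ⟨(α₀ (a * b) : Ω), hTN (α₀ (a * b)).2⟩ =
            ι (⟨(α₀ a : Ω), hTN (α₀ a).2⟩ * ⟨(α₀ b : Ω), hTN (α₀ b).2⟩) by
          rw [map_mul, hα₀, hα₀, hα₀,
            show (⟨((a * b : T) : Ω), hTN (a * b).2⟩ : (normalizerIn S Q)) = ⟨a, hTN a.2⟩ * ⟨b, hTN b.2⟩ from rfl,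
            map_mul]
          group)) :) } : T →* T)
    ⟨hα₀inj, Finite.injective_iff_surjective.1 hα₀inj⟩
  have hα : ∀ t : T, ι ⟨(α t : Ω), hTN (α t).2⟩ = g * ι ⟨t, hTN t.2⟩ * g⁻¹ := hα₀
  have hαpow : ∀ (k : ℕ) (t : T), ι ⟨((α ^ k) t : T), hTN ((α ^ k) t).2⟩ =
      g ^ k * ι ⟨t, hTN t.2⟩ * (g ^ k)⁻¹ := by
    intro k
    induction k with
    | zero => intro t; simp
    | succ k ih =>
      intro t
      have e : (α ^ (k + 1)) t = (α ^ k) (α t) := by rw [pow_succ]; rfl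
      rw [show (⟨((α ^ (k + 1)) t : T), hTN ((α ^ (k + 1)) t).2⟩ : (normalizerIn S Q)) =
        ⟨((α ^ k) (α t) : T), hTN ((α ^ k) (α t)).2⟩ from Subtype.ext (congrArg (fun x : T => (x : Ω)) e), ih,
        hα, pow_succ]
      group
  have hmemeq : ∀ a b : T, ι ⟨a, hTN a.2⟩ = ι ⟨b, hTN b.2⟩ → a = b := fun a b h =>
    Subtype.ext (congrArg (fun x : (normalizerIn S Q) => (x : Ω)) (hinj h))
  have hαm : α ^ m = 1 := MulEquiv.ext fun t => hmemeq _ _ (by
    rw [hαpow, hgm _ ⟨_, t.2, rfl⟩, mul_inv_cancel_right]; rfl)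
  have hordcop : (orderOf α).Coprime p :=
    hmcop.coprime_dvd_left (orderOf_dvd_of_pow_eq_one hαm)
  have hαaut : α ∈ F.autGroup T := by
    refine (mem_autGroup_iff F hTS).2 ?_
    exact ((hreal T hTN _ fun t => hTN (α t).2).2 ⟨g, fun t => hα t⟩).1
  refine hnoX ⟨Subgroup.zpowers α, Subgroup.zpowers_le.2 hαaut, ?_, inferInstance,
    by rw [Nat.card_zpowers]; exact hordcop, ?_⟩
  · rw [Ne, Subgroup.zpowers_eq_bot]
    intro h
    obtain ⟨t, ht, rfl⟩ := ht₁
    refine hgt₁ (mul_inv_eq_iff_eq_mul.1 ?_)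
    have h1 := hα ⟨t, ht⟩
    rw [show α ⟨t, ht⟩ = ⟨t, ht⟩ by rw [h]; rfl] at h1
    exact h1.symm
  · set ι' : T →* L := ι.comp (Subgroup.inclusion hTN) with hι'
    have hcl : (Subgroup.closure {y : ↥T | ∃ ψ ∈ Subgroup.zpowers α, ∃ t : ↥T, y = ψ t * t⁻¹}).map ι' ≤
        twist g ((T.subgroupOf (normalizerIn S Q)).map ι) := by
      rw [Subgroup.map_le_iff_le_comap, Subgroup.closure_le]
      rintro _ ⟨ψ, hψ, t, rfl⟩
      obtain ⟨k, -, rfl⟩ := mem_zpowers_iff_mem_range_orderOf.1 hψ |> fun h => by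
        simpa [Finset.mem_image] using h
      show ι' ((α ^ k) t * t⁻¹) ∈ twist g _
      clear hψ
      induction k generalizing t with
      | zero => simp
      | succ k ihk =>
        have e : (α ^ (k + 1)) t * t⁻¹ = ((α ^ k) (α t) * (α t)⁻¹) * (α t * t⁻¹) := by
          rw [pow_succ, MulAut.mul_apply]; group
        rw [e, map_mul]
        refine Subgroup.mul_mem _ (ihk (α t)) (Subgroup.subset_closure ⟨ι' t, ⟨_, t.2, rfl⟩, ?_⟩)
        rw [map_mul, map_inv]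
        show ι ⟨(α t : Ω), hTN (α t).2⟩ * (ι ⟨t, hTN t.2⟩)⁻¹ = _
        rw [hα]
        rfl
    intro a b ha hb ha1 hb1
    obtain ⟨k, hk⟩ := htr (ι' a) (hcl ⟨a, ha, rfl⟩) (ι' b) (hcl ⟨b, hb, rfl⟩)
      (fun h => ha1 (hmemeq a 1 (h.trans (map_one ι').symm)))
      (fun h => hb1 (hmemeq b 1 (h.trans (map_one ι').symm)))
    exact ⟨α ^ k, Subgroup.pow_mem _ (Subgroup.mem_zpowers α) k,
      hmemeq _ _ ((hαpow k a).trans hk)⟩

end CfsgLib.TorusClosure
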