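import Cfsg.Agent.MinParFF.Setup
import Cfsg.Agent.WeakClosureJ.Members
import Mathlib.Tactic

/-!
A subgroup generated by two minimal offenders which is not contained in a given subgroup `M` that
contains a Sylow subgroup, and the torus in it.
-/

set_option autoImplicit false
set_option linter.style.haveILetI false
set_option linter.unusedSectionVars false

open Cfsg

namespace CfsgLib.TorusClosure

open CfsgLib.WeakClosureJ (cj mem_cj card_cj cj_mul cj_one cj_mono exists_normalizer_gt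
  cj_eq_of_mem_normalizer mem_normalizer_of_cj_le)

variable {G : Type*} [Group G]

/-- A minimal offender on `V` inside `N`. -/
structure Off (p : ℕ) (V N A : Subgroup G) : Prop where
  le : A ≤ N
  el : IsElementaryAbelian p A
  ne : A ≠ ⊥
  bound : Nat.card V ≤ Nat.card A * Nat.card ↥(V ⊓ Subgroup.centralizer (A : Set G))
  strict : ∀ B : Subgroup G, B ≤ A → B ≠ ⊥ → B ≠ A →
    Nat.card B * Nat.card ↥(V ⊓ Subgroup.centralizer (B : Set G)) <
      Nat.card A * Nat.card ↥(V ⊓ Subgroup.centralizer (A : Set G))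

/-- `A` lies in a normal `p`-subgroup of `X`. -/
def InCore (p : ℕ) (X A : Subgroup G) : Prop :=
  ∃ N : Subgroup G, N ≤ X ∧ X ≤ Subgroup.normalizer (N : Set G) ∧ IsPGroup p N ∧ A ≤ N

/-- A `p`-subgroup of `H` contained in no larger one. -/
def MaxP (p : ℕ) (H R : Subgroup G) : Prop :=
  R ≤ H ∧ IsPGroup p R ∧ ∀ Q : Subgroup G, Q ≤ H → IsPGroup p Q → R ≤ Q → Q = R

theorem cj_centralizer (x : G) (A : Subgroup G) :
    cj x (Subgroup.centralizer (A : Set G)) = Subgroup.centralizer (cj x A : Set G) := by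
  ext y
  rw [mem_cj, Subgroup.mem_centralizer_iff, Subgroup.mem_centralizer_iff]
  constructor
  · intro h a ha
    have h1 := h _ (mem_cj.1 ha)
    calc a * y = x * ((x⁻¹ * a * x) * (x⁻¹ * y * x)) * x⁻¹ := by group
      _ = x * ((x⁻¹ * y * x) * (x⁻¹ * a * x)) * x⁻¹ := by rw [h1]
      _ = y * a := by group
  · intro h a ha
    have h1 := h (x * a * x⁻¹) (mem_cj.2 (by simpa [mul_assoc] using ha))
    calc a * (x⁻¹ * y * x) = x⁻¹ * ((x * a * x⁻¹) * y) * x := by group
      _ = x⁻¹ * (y * (x * a * x⁻¹)) * x := by rw [h1]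
      _ = x⁻¹ * y * x * a := by group

theorem cj_le_of_normalizer {x : G} {A N : Subgroup G} (hx : x ∈ Subgroup.normalizer (N : Set G))
    (hA : A ≤ N) : cj x A ≤ N :=
  (cj_mono x hA).trans (cj_eq_of_mem_normalizer hx).le

theorem card_fix_cj [Finite G] {x : G} {V : Subgroup G}
    (hx : x ∈ Subgroup.normalizer (V : Set G)) (A : Subgroup G) :
    Nat.card ↥(V ⊓ Subgroup.centralizer (cj x A : Set G)) =
      Nat.card ↥(V ⊓ Subgroup.centralizer (A : Set G)) := by
  rw [← cj_centralizer]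
  conv_lhs => rw [← cj_eq_of_mem_normalizer hx]
  rw [cj, cj, ← Subgroup.map_inf _ _ _ (MulAut.conj x).injective]
  exact card_cj x _

theorem Off.conj [Finite G] {p : ℕ} {V N A : Subgroup G} (h : Off p V N A) {x : G}
    (hxV : x ∈ Subgroup.normalizer (V : Set G)) (hxN : x ∈ Subgroup.normalizer (N : Set G)) :
    Off p V N (cj x A) where
  le := cj_le_of_normalizer hxN h.le
  el := by
    refine ⟨⟨⟨?_⟩⟩, ?_⟩
    · rintro ⟨_, a, ha, rfl⟩ ⟨_, b, hb, rfl⟩
      haveI := h.el.1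
      exact Subtype.ext (show MulAut.conj x a * MulAut.conj x b = MulAut.conj x b * MulAut.conj x a by
        rw [← map_mul, ← map_mul, setLike_mul_comm ha hb])
    · rintro _ ⟨a, ha, rfl⟩
      rw [← map_pow, h.el.2 a ha, map_one]
  ne := fun e => h.ne ((Subgroup.map_eq_bot_iff_of_injective A (MulAut.conj x).injective).1 e)
  bound := by rw [card_cj, card_fix_cj hxV]; exact h.bound
  strict := fun B hB hB1 hBA => by
    have hx' : x⁻¹ ∈ Subgroup.normalizer (V : Set G) := inv_mem hxV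
    have e : B = cj x (cj x⁻¹ B) := by rw [← cj_mul, mul_inv_cancel, cj_one]
    rw [e, card_cj, card_fix_cj hxV, card_cj x A, card_fix_cj hxV]
    refine h.strict _ ?_ (fun e1 => hB1 ?_) fun e1 => hBA ?_
    · intro b hb
      have h1 := mem_cj.1 (hB (show x * b * x⁻¹ ∈ B by simpa [mul_assoc] using mem_cj.1 hb))
      simpa [mul_assoc] using h1
    · rw [e, e1]
      exact Subgroup.map_bot _
    · rw [e, e1]

theorem InCore.conj {p : ℕ} {X A : Subgroup G} (h : InCore p X A) {x : G} (hx : x ∈ X) :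
    InCore p X (cj x A) := by
  obtain ⟨N, hNX, hXN, hNp, hAN⟩ := h
  exact ⟨N, hNX, hXN, hNp, cj_le_of_normalizer (hXN hx) hAN⟩

theorem MaxP.exists_conj [Finite G] {p : ℕ} [Fact p.Prime] {H R : Subgroup G} (hR : MaxP p H R)
    {Q : Subgroup G} (hQ : Q ≤ H) (hQp : IsPGroup p Q) : ∃ m ∈ H, Q ≤ cj m R := by
  have hRp : IsPGroup p (R.subgroupOf H) := hR.2.1.comap_of_injective H.subtype H.subtype_injective
  let S : Sylow p H :=
    ⟨R.subgroupOf H, hRp, fun {K} hK hle => by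
      have h1 := hR.2.2 (K.map H.subtype) (Subgroup.map_subtype_le _) (hK.map _)
        (by rw [← Subgroup.map_subgroupOf_eq_of_le hR.1]; exact Subgroup.map_mono hle)
      rw [← h1, Subgroup.subgroupOf, Subgroup.comap_map_eq_self_of_injective H.subtype_injective]⟩
  obtain ⟨m, hm⟩ := WeakClosureJ.exists_le_cj S (hQp.comap_of_injective H.subtype H.subtype_injective)
  refine ⟨m, m.2, fun y hy => ?_⟩
  have h1 : (⟨y, hQ hy⟩ : H) ∈ cj m (S : Subgroup H) := hm hy
  have h2 : m⁻¹ * (⟨y, hQ hy⟩ : H) * m ∈ R.subgroupOf H := mem_cj.1 h1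
  exact mem_cj.2 h2

theorem MaxP.card_le [Finite G] {p : ℕ} [Fact p.Prime] {H R : Subgroup G} (hR : MaxP p H R)
    {Q : Subgroup G} (hQ : Q ≤ H) (hQp : IsPGroup p Q) : Nat.card Q ≤ Nat.card R := by
  obtain ⟨m, -, hm⟩ := hR.exists_conj hQ hQp
  exact (Subgroup.card_le_of_le hm).trans (card_cj m R).le

theorem isPGroup_sup {p : ℕ} [Fact p.Prime] [Finite G] {A B : Subgroup G} (hA : IsPGroup p A)
    (hB : IsPGroup p B) (h : B ≤ Subgroup.normalizer (A : Set G)) : IsPGroup p (A ⊔ B : Subgroup G) := by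
  haveI : (A.subgroupOf (A ⊔ B)).Normal :=
    (Subgroup.normal_subgroupOf_iff_le_normalizer le_sup_left).mpr (sup_le Subgroup.le_normalizer h)
  have h1 := IsPGroup.to_sup_of_normal_left (H := A.subgroupOf (A ⊔ B)) (K := B.subgroupOf (A ⊔ B))
    (hA.comap_of_injective _ (A ⊔ B).subtype_injective)
    (hB.comap_of_injective _ (A ⊔ B).subtype_injective)
  rw [← Subgroup.subgroupOf_sup le_sup_left le_sup_right, Subgroup.subgroupOf_self] at h1
  exact h1.of_equiv Subgroup.topEquiv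

/-- A group in which the subgroups over a minimal offender lie in `M`. -/
structure Generated (p : ℕ) (V N M L R₀ A : Subgroup G) : Prop where
  off : Off p V N A
  L_le_V : L ≤ Subgroup.normalizer (V : Set G)
  not_le : ¬ L ≤ M
  max : MaxP p L R₀
  R_le : R₀ ≤ M
  A_le : A ≤ R₀
  not_core : ¬ InCore p L A
  below : ∀ K : Subgroup G, K ≤ L → K ≠ L → A ≤ K → K ≤ M

theorem exists_generated [Finite G] {p : ℕ} [Fact p.Prime] (V N M : Subgroup G) (n : ℕ) :
    ∀ X R : Subgroup G, Nat.card X = n → X ≤ Subgroup.normalizer (V : Set G) →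
      X ≤ Subgroup.normalizer (N : Set G) → MaxP p X R → R ≤ M → ¬ X ≤ M →
      (∀ Z : Subgroup G, Z ≤ X → Z ≠ X → R ≤ Z → Z ≤ M) →
      (∃ A, Off p V N A ∧ A ≤ R ∧ ¬ InCore p X A) →
      ∃ L R₀ A, L ≤ X ∧ Generated p V N M L R₀ A := by
  classical
  induction n using Nat.strong_induction_on with
  | _ n ih =>
  intro X R hn hXV hXN hR hRM hXM hover hex
  let Good : Subgroup G → Prop := fun B => Off p V N B ∧ ¬ InCore p X B
  let Cand : Subgroup G × Subgroup G → Prop := fun c =>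
    c.1 ≤ X ∧ c.1 ≠ X ∧ ¬ c.1 ≤ M ∧ c.2 ≤ c.1 ⊓ M ∧ IsPGroup p c.2 ∧ ∃ B, Good B ∧ B ≤ c.2
  haveI : Fintype (Subgroup G) := Fintype.ofFinite _
  set cs := (Finset.univ : Finset (Subgroup G × Subgroup G)).filter Cand with hcs
  by_cases hne : cs.Nonempty
  swap
  · obtain ⟨A, hA, hAR, hAX⟩ := hex
    refine ⟨X, R, A, le_rfl, ⟨hA, hXV, hXM, hR, hRM, hAR, hAX, fun K hK hKX hAK => ?_⟩⟩
    by_contra hKM
    exact hne ⟨(K, A), Finset.mem_filter.2 ⟨Finset.mem_univ _, hK, hKX, hKM,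
      le_inf hAK (hAR.trans hRM), hR.2.1.to_le hAR, A, ⟨hA, hAX⟩, le_rfl⟩⟩
  obtain ⟨c1, hc1, hmax1⟩ := cs.exists_max_image (fun c => Nat.card c.2) hne
  obtain ⟨c, hc, hmin⟩ := (cs.filter fun c => Nat.card c.2 = Nat.card c1.2).exists_min_image
    (fun c => Nat.card c.1) ⟨c1, Finset.mem_filter.2 ⟨hc1, rfl⟩⟩
  obtain ⟨hcmem, hceq⟩ := Finset.mem_filter.1 hc
  obtain ⟨-, hKX, hKne, hKM, hR'le, hR'p, B₀, hB₀, hB₀R⟩ := Finset.mem_filter.1 hcmem
  set K := c.1
  set R' := c.2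
  have hnogrow : ∀ Z Q : Subgroup G, Z ≤ X → Z ≠ X → ¬ Z ≤ M → Q ≤ Z ⊓ M → IsPGroup p Q → R' ≤ Q →
      Q = R' := by
    intro Z Q h1 h2 h3 h4 h5 h6
    refine (Subgroup.eq_of_le_of_card_ge h6 ?_).symm
    rw [hceq]
    exact hmax1 (Z, Q) (Finset.mem_filter.2 ⟨Finset.mem_univ _, h1, h2, h3, h4, h5, B₀, hB₀,
      hB₀R.trans h6⟩)
  have hmax : MaxP p (X ⊓ M) R := ⟨le_inf hR.1 hRM, hR.2.1,
    fun Q hQ hQp hle => hR.2.2 Q (hQ.trans inf_le_left) hQp hle⟩
  obtain ⟨m, hm, hR'm⟩ := hmax.exists_conj (le_inf (hR'le.trans (inf_le_left.trans hKX))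
    (hR'le.trans inf_le_right)) hR'p
  have hRmp : IsPGroup p (cj m R) := hR.2.1.map _
  have hne' : R' ≠ cj m R := by
    intro e
    have h1 : R ≤ cj m⁻¹ K := by
      intro r hr
      rw [mem_cj, inv_inv]
      exact (hR'le (e.ge (mem_cj.2 (by simpa [mul_assoc] using hr)))).1
    have h2 : cj m⁻¹ K ≤ M := by
      refine hover _ ?_ ?_ h1
      · intro k hk
        have := X.mul_mem (X.mul_mem (X.inv_mem hm.1) (hKX (mem_cj.1 hk))) hm.1
        simpa [mul_assoc] using this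
      · intro e2
        refine hKne (Subgroup.eq_of_le_of_card_ge hKX ?_)
        rw [← card_cj m⁻¹ K, e2]
    refine hKM fun k hk => ?_
    have := M.mul_mem (M.mul_mem hm.2 (h2 (mem_cj.2 (show m⁻¹⁻¹ * (m⁻¹ * k * m) * m⁻¹ ∈ K by
      simpa [mul_assoc] using hk) : m⁻¹ * k * m ∈ cj m⁻¹ K))) (M.inv_mem hm.2)
    simpa [mul_assoc] using this
  -- the subgroup generated by the good members of `R'`
  set D := sSup {B : Subgroup G | Good B ∧ B ≤ R'} with hD
  have hDR : D ≤ R' := sSup_le fun B hB => hB.2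
  have hgood : ∀ B, Good B → ∀ x ∈ X, Good (cj x B) := by
    intro B hB x hx
    refine ⟨hB.1.conj (hXV hx) (hXN hx), fun h => hB.2 ?_⟩
    have := h.conj (X.inv_mem hx)
    rwa [← cj_mul, inv_mul_cancel, cj_one] at this
  have hDinv : ∀ x ∈ X, x ∈ Subgroup.normalizer (R' : Set G) →
      x ∈ Subgroup.normalizer (D : Set G) := by
    intro x hx hxR
    refine mem_normalizer_of_cj_le ?_
    rw [cj, Subgroup.map_le_iff_le_comap]
    exact sSup_le fun B hB => Subgroup.map_le_iff_le_comap.1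
      (show cj x B ≤ D from le_sSup ⟨hgood B hB.1 x hx, cj_le_of_normalizer hxR hB.2⟩)
  have hR'X : R' ≤ X := hR'le.trans (inf_le_left.trans hKX)
  set Y := X ⊓ Subgroup.normalizer (D : Set G) with hY
  have hYne : Y ≠ X := fun e => hB₀.2
    ⟨D, hDR.trans hR'X, inf_eq_left.1 e, hR'p.to_le hDR, le_sSup ⟨hB₀, hB₀R⟩⟩
  have hR'Y : R' ≤ Y := fun r hr => ⟨hR'X hr, hDinv r (hR'X hr) (Subgroup.le_normalizer hr)⟩
  have hYM : Y ≤ M := by
    by_contra hYM
    obtain ⟨z, hzR, hzN, hzR'⟩ := exists_normalizer_gt hRmp hR'm hne'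
    have hzXM : z ∈ X ⊓ M := by
      have := (X ⊓ M).mul_mem ((X ⊓ M).mul_mem hm (le_inf hR.1 hRM (mem_cj.1 hzR))) ((X ⊓ M).inv_mem hm)
      simpa [mul_assoc] using this
    have hz : Subgroup.zpowers z ≤ cj m R := Subgroup.zpowers_le.2 hzR
    have := hnogrow Y (R' ⊔ Subgroup.zpowers z) inf_le_left hYne hYM
      (sup_le (le_inf hR'Y (hR'le.trans inf_le_right))
        (Subgroup.zpowers_le.2 ⟨⟨hzXM.1, hDinv z hzXM.1 hzN⟩, hzXM.2⟩))
      (hRmp.to_le (sup_le hR'm hz)) le_sup_left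
    exact hzR' (this ▸ Subgroup.mem_sup_right (Subgroup.mem_zpowers z))
  have hKR : MaxP p K R' := by
    refine ⟨hR'le.trans inf_le_left, hR'p, fun Q hQ hQp hle => ?_⟩
    by_contra hQne
    obtain ⟨q, hq, hqN, hqR⟩ := exists_normalizer_gt hQp hle (Ne.symm hQne)
    have hqM : q ∈ M := hYM ⟨hKX (hQ hq), hDinv q (hKX (hQ hq)) hqN⟩
    have := hnogrow K (R' ⊔ Subgroup.zpowers q) hKX hKne hKM
      (sup_le hR'le (Subgroup.zpowers_le.2 ⟨hQ hq, hqM⟩))
      (hQp.to_le (sup_le hle (Subgroup.zpowers_le.2 hq))) le_sup_left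
    exact hqR (this ▸ Subgroup.mem_sup_right (Subgroup.mem_zpowers q))
  have hKlt : Nat.card K < n := by
    rw [← hn]
    exact lt_of_le_of_ne (Subgroup.card_le_of_le hKX)
      fun e => hKne (Subgroup.eq_of_le_of_card_ge hKX e.ge)
  have hKover : ∀ Z : Subgroup G, Z ≤ K → Z ≠ K → R' ≤ Z → Z ≤ M := by
    intro Z hZ hZne hle
    by_contra hZM
    have hmem : (Z, R') ∈ cs := Finset.mem_filter.2 ⟨Finset.mem_univ _, hZ.trans hKX,
      fun e => hKne (le_antisymm hKX (e ▸ hZ)), hZM, le_inf hle (hR'le.trans inf_le_right), hR'p,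
      B₀, hB₀, hB₀R⟩
    have h1 := hmin (Z, R') (Finset.mem_filter.2 ⟨hmem, hceq⟩)
    exact hZne (Subgroup.eq_of_le_of_card_ge hZ h1)
  have hKex : ∃ A, Off p V N A ∧ A ≤ R' ∧ ¬ InCore p K A := by
    by_contra hcon
    push Not at hcon
    refine hKM fun k hk => hYM ⟨hKX hk, ?_⟩
    refine mem_normalizer_of_cj_le ?_
    rw [cj, Subgroup.map_le_iff_le_comap]
    refine sSup_le fun B hB => Subgroup.map_le_iff_le_comap.1 ?_
    obtain ⟨N', hN'K, hKN', hN'p, hBN'⟩ := hcon B hB.1.1 hB.2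
    have hN'R : N' ≤ R' := by
      have h1 := hKR.2.2 (N' ⊔ R') (sup_le hN'K hKR.1)
        (isPGroup_sup hN'p hR'p (hKR.1.trans hKN')) le_sup_right
      exact h1 ▸ le_sup_left
    exact le_sSup ⟨hgood B hB.1 k (hKX hk), (cj_le_of_normalizer (hKN' hk) hBN').trans hN'R⟩
  obtain ⟨L, R₀, A, hLK, hgen⟩ := ih _ hKlt K R' rfl (hKX.trans hXV) (hKX.trans hXN) hKR
    (hR'le.trans inf_le_right) hKM hKover hKex
  exact ⟨L, R₀, A, hLK.trans hKX, hgen⟩

/-- A subgroup invariant under `L` and containing `A` contains `L`. -/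
theorem Generated.le_of_invariant [Finite G] {p : ℕ} [Fact p.Prime] {V N M L R₀ A : Subgroup G}
    (h : Generated p V N M L R₀ A) {K : Subgroup G} (hLK : L ≤ Subgroup.normalizer (K : Set G))
    (hAK : A ≤ K) : L ≤ K := by
  classical
  have hAL : A ≤ L := h.A_le.trans h.max.1
  by_contra hLK'
  have hQM : L ⊓ K ≤ M :=
    h.below _ inf_le_left (fun e => hLK' (inf_eq_left.1 e)) (le_inf hAL hAK)
  set Q := K.subgroupOf L with hQ
  haveI : Q.Normal := ⟨fun q hq g => (Subgroup.mem_normalizer_iff.1 (hLK g.2) (q : G)).1 hq⟩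
  let S : Sylow p ↥L :=
    ⟨R₀.subgroupOf L, h.max.2.1.comap_of_injective _ L.subtype_injective, fun {Q'} hQ' hle => by
      have h1 := h.max.2.2 (Q'.map L.subtype) (Subgroup.map_subtype_le _) (hQ'.map _)
        (by rw [← Subgroup.map_subgroupOf_eq_of_le h.max.1]; exact Subgroup.map_mono hle)
      rw [← h1, Subgroup.subgroupOf, Subgroup.comap_map_eq_self_of_injective L.subtype_injective]⟩
  obtain ⟨S₀, hS₀⟩ := CfsgLib.NormalCent.sylow_inf_normal S Q
  set D := (S₀ : Subgroup Q).map Q.subtype with hDdef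
  have hD : D = R₀.subgroupOf L ⊓ Q := hS₀
  have htop : Subgroup.normalizer (D : Set ↥L) ⊔ Q = ⊤ := Sylow.normalizer_sup_eq_top S₀
  by_cases hn : Subgroup.normalizer (D : Set ↥L) = ⊤
  · refine h.not_core ⟨D.map L.subtype, Subgroup.map_subtype_le _, fun g hg => ?_,
      (S₀.2.map _).map _, fun a ha => ⟨⟨a, hAL ha⟩, hD.ge ⟨h.A_le ha, hAK ha⟩, rfl⟩⟩
    exact Subgroup.le_normalizer_map L.subtype ⟨⟨g, hg⟩, hn.ge trivial, rfl⟩
  · have hSN : R₀.subgroupOf L ≤ Subgroup.normalizer (D : Set ↥L) := by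
      intro t ht
      refine Subgroup.mem_normalizer_fintype fun d hd => ?_
      rw [SetLike.mem_coe, hD] at hd ⊢
      exact ⟨Subgroup.mul_mem _ (Subgroup.mul_mem _ ht hd.1) (Subgroup.inv_mem _ ht),
        Subgroup.Normal.conj_mem inferInstance _ hd.2 t⟩
    have hNM : (Subgroup.normalizer (D : Set ↥L)).map L.subtype ≤ M := by
      refine h.below _ (Subgroup.map_subtype_le _) ?_ fun b hb => ⟨⟨b, hAL hb⟩, hSN (h.A_le hb), rfl⟩
      intro e
      refine hn (eq_top_iff.2 fun y _ => ?_)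
      obtain ⟨y', hy', he⟩ := e.ge y.2
      rwa [← L.subtype_injective he]
    refine h.not_le fun y hy => ?_
    have h1 : (⊤ : Subgroup ↥L) ≤ M.subgroupOf L := htop.ge.trans
      (sup_le (fun t ht => hNM ⟨t, ht, rfl⟩) (fun t ht => hQM ⟨t.2, ht⟩))
    exact h1 (x := ⟨y, hy⟩) trivial

theorem Generated.pCore_le [Finite G] {p : ℕ} [Fact p.Prime] {V N M L R₀ A : Subgroup G}
    (h : Generated p V N M L R₀ A) : (Cfsg.pCore p ↥L).map L.subtype ≤ R₀ := by
  set O := (Cfsg.pCore p ↥L).map L.subtype with hO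
  have hOn : (Cfsg.pCore p ↥L).Normal := Cfsg.pCore_normal p ↥L
  have hOp : IsPGroup p O := (CfsgLib.CharP.isPGroup_pCore).map _
  have hOL : O ≤ L := Subgroup.map_subtype_le _
  have hLO : L ≤ Subgroup.normalizer (O : Set G) := fun g hg => mem_normalizer_of_cj_le (by
    rintro _ ⟨_, ⟨r, hr, rfl⟩, rfl⟩
    exact ⟨⟨g, hg⟩ * r * ⟨g, hg⟩⁻¹, hOn.conj_mem r hr _, rfl⟩)
  have h1 := h.max.2.2 (O ⊔ R₀) (sup_le hOL h.max.1)
    (isPGroup_sup hOp h.max.2.1 (h.max.1.trans hLO)) le_sup_right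
  exact h1 ▸ le_sup_left

theorem Generated.minimal [Finite G] {p : ℕ} [Fact p.Prime] {V N M L R₀ A : Subgroup G}
    (h : Generated p V N M L R₀ A) (hV : IsElementaryAbelian p V)
    (hfaith : L ⊓ Subgroup.centralizer (V : Set G) = ⊥)
    (hmoved : ∃ z ∈ V, (∀ r ∈ R₀, r * z = z * r) ∧ ∃ x ∈ L, x * z ≠ z * x) :
    MinParFF.Minimal p L V (L ⊓ M) A ((Cfsg.pCore p ↥L).map L.subtype) := by
  classical
  set O := (Cfsg.pCore p ↥L).map L.subtype with hO
  have hAL : A ≤ L := h.A_le.trans h.max.1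
  have hOn : (Cfsg.pCore p ↥L).Normal := Cfsg.pCore_normal p ↥L
  have hOnorm : ∀ g ∈ L, ∀ r ∈ O, g * r * g⁻¹ ∈ O := by
    rintro g hg _ ⟨r, hr, rfl⟩
    exact ⟨⟨g, hg⟩ * r * ⟨g, hg⟩⁻¹, hOn.conj_mem r hr _, rfl⟩
  have hOp : IsPGroup p O := (CfsgLib.CharP.isPGroup_pCore).map _
  have hOL : O ≤ L := Subgroup.map_subtype_le _
  have hLO : L ≤ Subgroup.normalizer (O : Set G) := fun g hg => mem_normalizer_of_cj_le (by
    rintro _ ⟨r, hr, rfl⟩
    exact hOnorm g hg r hr)
  have hOR : O ≤ R₀ := by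
    have h1 := h.max.2.2 (O ⊔ R₀) (sup_le hOL h.max.1)
      (isPGroup_sup hOp h.max.2.1 (h.max.1.trans hLO)) le_sup_right
    exact h1 ▸ le_sup_left
  -- the part of `L ⊓ M` invariant under `L`
  have hcore : ∀ a ∈ R₀, (∀ g ∈ L, g⁻¹ * a * g ∈ L ⊓ M) → a ∈ O := by
    intro a ha hc
    set K := ((L ⊓ M).subgroupOf L).normalCore with hK
    haveI : K.Normal := Subgroup.normalCore_normal _
    let S : Sylow p ↥L :=
      ⟨R₀.subgroupOf L, h.max.2.1.comap_of_injective _ L.subtype_injective, fun {Q} hQ hle => by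
        have h1 := h.max.2.2 (Q.map L.subtype) (Subgroup.map_subtype_le _) (hQ.map _)
          (by rw [← Subgroup.map_subgroupOf_eq_of_le h.max.1]; exact Subgroup.map_mono hle)
        rw [← h1, Subgroup.subgroupOf, Subgroup.comap_map_eq_self_of_injective L.subtype_injective]⟩
    obtain ⟨S₀, hS₀⟩ := CfsgLib.NormalCent.sylow_inf_normal S K
    set D := (S₀ : Subgroup K).map K.subtype with hDdef
    have hD : D = R₀.subgroupOf L ⊓ K := hS₀
    have htop : Subgroup.normalizer (D : Set ↥L) ⊔ K = ⊤ := Sylow.normalizer_sup_eq_top S₀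
    have hNtop : Subgroup.normalizer (D : Set ↥L) = ⊤ := by
      by_contra hne
      have hSN : R₀.subgroupOf L ≤ Subgroup.normalizer (D : Set ↥L) := by
        intro t ht
        refine Subgroup.mem_normalizer_fintype fun d hd => ?_
        rw [SetLike.mem_coe, hD] at hd ⊢
        exact ⟨Subgroup.mul_mem _ (Subgroup.mul_mem _ ht hd.1) (Subgroup.inv_mem _ ht),
          Subgroup.Normal.conj_mem inferInstance _ hd.2 t⟩
      have hNM : (Subgroup.normalizer (D : Set ↥L)).map L.subtype ≤ M := by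
        refine h.below _ (Subgroup.map_subtype_le _) ?_ fun b hb => ⟨⟨b, hAL hb⟩, hSN (h.A_le hb), rfl⟩
        intro e
        refine hne (eq_top_iff.2 fun y _ => ?_)
        obtain ⟨y', hy', he⟩ := e.ge y.2
        rwa [← L.subtype_injective he]
      refine h.not_le fun y hy => ?_
      have h1 : (⊤ : Subgroup ↥L) ≤ M.subgroupOf L := htop.ge.trans
        (sup_le (fun t ht => hNM ⟨t, ht, rfl⟩)
          (fun t ht => ((L ⊓ M).subgroupOf L).normalCore_le ht |>.2))
      exact h1 (x := ⟨y, hy⟩) trivial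
    have hDn : D.Normal := Subgroup.normalizer_eq_top_iff.1 hNtop
    have haK : (⟨a, h.max.1 ha⟩ : ↥L) ∈ K := fun g => by
      have := hc (g⁻¹ : ↥L) (g⁻¹).2
      show ((g * ⟨a, h.max.1 ha⟩ * g⁻¹ : ↥L) : G) ∈ L ⊓ M
      simpa using this
    exact ⟨⟨a, h.max.1 ha⟩, CfsgLib.LocalP.le_pCore hDn (S₀.2.map _) (hD.ge ⟨ha, haK⟩), rfl⟩
  exact
    { V_el := hV
      P_norm := h.L_le_V
      faith := hfaith
      M_le := inf_le_left
      M_lt := fun hle => h.not_le (hle.trans inf_le_right)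
      A_le := le_inf hAL (h.A_le.trans h.R_le)
      A_el := h.off.el
      bound := h.off.bound
      strict := h.off.strict
      gen := fun g hg hgM => by
        by_contra hne
        have hle : A ⊔ MinParFF.conjSub g A ≤ L :=
          sup_le hAL (cj_le_of_normalizer (Subgroup.le_normalizer hg) hAL)
        have h1 := h.below _ hle hne le_sup_left
        have h2 : cj g A ≤ M := le_sup_right.trans h1
        -- `g⁻¹ (L ⊓ M) g` contains `A`
        have h3 : cj g⁻¹ (L ⊓ M) ≤ L ⊓ M := by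
          have h4 : cj g⁻¹ (L ⊓ M) ≤ L :=
            cj_le_of_normalizer (Subgroup.le_normalizer (L.inv_mem hg)) inf_le_left
          refine le_inf h4 (h.below _ h4 (fun e => ?_) fun a ha => ?_)
          · refine h.not_le ((Subgroup.eq_of_le_of_card_ge (inf_le_left : L ⊓ M ≤ L) ?_).ge.trans
              inf_le_right)
            rw [← card_cj g⁻¹ (L ⊓ M), e]
          · rw [mem_cj, inv_inv]
            exact ⟨L.mul_mem (L.mul_mem hg (hAL ha)) (L.inv_mem hg),
              h2 (mem_cj.2 (by simpa [mul_assoc] using ha))⟩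
        have hgN : g ∈ L ⊓ Subgroup.normalizer ((L ⊓ M : Subgroup G) : Set G) :=
          ⟨hg, by simpa using inv_mem (mem_normalizer_of_cj_le h3)⟩
        have hAN : A ≤ L ⊓ Subgroup.normalizer ((L ⊓ M : Subgroup G) : Set G) := fun a ha =>
          ⟨hAL ha, Subgroup.le_normalizer ⟨hAL ha, h.R_le (h.A_le ha)⟩⟩
        by_cases hN : L ⊓ Subgroup.normalizer ((L ⊓ M : Subgroup G) : Set G) = L
        · -- then every conjugate of `A` lies in `L ⊓ M`
          refine h.not_core ⟨O, hOL, hLO, hOp, fun a ha => hcore a (h.A_le ha) fun y hy => ?_⟩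
          have hy' := (inf_eq_left.1 hN) hy
          exact (Subgroup.mem_normalizer_iff''.1 hy' a).1 ⟨hAL ha, h.R_le (h.A_le ha)⟩
        · exact hgM ⟨hg, h.below _ inf_le_left hN hAN hgN⟩
      R_le := le_inf hOL (hOR.trans h.R_le)
      R_norm := hOnorm
      R_max := fun Q hQL hQn hQp => by
        have hn' : (Q.subgroupOf L).Normal := ⟨fun r hr g => hQn g g.2 r hr⟩
        have h1 := CfsgLib.LocalP.le_pCore hn'
          (hQp.of_equiv (Subgroup.subgroupOfEquivOfLe hQL).symm)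
        intro y hy
        exact ⟨⟨y, hQL hy⟩, h1 hy, rfl⟩
      core := fun a ha hc => hcore a (h.A_le ha) hc }

end CfsgLib.TorusClosure
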