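import Cfsg.Agent.TorusClosure.Torus
import Cfsg.Agent.WeakClosureJ.Inner
import Cfsg.Agent.WeakClosureJ.Factor
import Mathlib.GroupTheory.SemidirectProduct

/-!
A subgroup `T` central in a Sylow subgroup `P` and normalised by `N(J(P))` is normal, unless a
`p'`-element normalising `T` acts transitively on the nontrivial elements of `[T, g]` (`p` odd).
-/

set_option autoImplicit false
set_option linter.style.haveILetI false
set_option linter.unusedSectionVars false

open Cfsg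

namespace CfsgLib.TorusClosure

open CfsgLib.WeakClosureJ CfsgLib.GlaubermanZJ

universe u

variable {Y : Type u} [Group Y]

/-- `[T, g]` -/
def twist (g : Y) (T : Subgroup Y) : Subgroup Y :=
  Subgroup.closure {d | ∃ t ∈ T, d = g * t * g⁻¹ * t⁻¹}

/-- A `p'`-element normalising `T` and transitive on the nontrivial elements of `[T, g]`. -/
def HasTorus (p : ℕ) (T : Subgroup Y) : Prop :=
  ∃ g ∈ Subgroup.normalizer (T : Set Y),
    (∃ m : ℕ, m.Coprime p ∧ ∀ t ∈ T, g ^ m * t = t * g ^ m) ∧ (∃ t ∈ T, g * t ≠ t * g) ∧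
      ∀ a ∈ twist g T, ∀ b ∈ twist g T, a ≠ 1 → b ≠ 1 → ∃ k : ℕ, g ^ k * a * (g ^ k)⁻¹ = b

theorem HasTorus.of_map {Z : Type u} [Group Z] [Finite Z] {p : ℕ} (f : Y →* Z)
    (hf : Function.Injective f) {T : Subgroup Y} (h : HasTorus p T) : HasTorus p (T.map f) := by
  obtain ⟨g, hg, ⟨m, hm, hgm⟩, ⟨t, ht, hgt⟩, htr⟩ := h
  refine ⟨f g, Subgroup.le_normalizer_map f ⟨g, hg, rfl⟩, ⟨m, hm, ?_⟩,
    ⟨f t, ⟨t, ht, rfl⟩, fun e => hgt (hf (by rw [map_mul, map_mul, e]))⟩, ?_⟩
  · rintro _ ⟨u, hu, rfl⟩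
    rw [← map_pow, ← map_mul, ← map_mul, hgm u hu]
  · have htw : twist (f g) (T.map f) = (twist g T).map f := by
      rw [twist, twist, MonoidHom.map_closure]
      congr 1
      ext d
      constructor
      · rintro ⟨_, ⟨u, hu, rfl⟩, rfl⟩
        exact ⟨_, ⟨u, hu, rfl⟩, by simp⟩
      · rintro ⟨_, ⟨u, hu, rfl⟩, rfl⟩
        exact ⟨f u, ⟨u, hu, rfl⟩, by simp⟩
    rw [htw]
    rintro _ ⟨a, ha, rfl⟩ _ ⟨b, hb, rfl⟩ ha1 hb1
    obtain ⟨k, hk⟩ := htr a ha b hb (fun e => ha1 (by rw [e, map_one])) (fun e => hb1 (by rw [e, map_one]))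
    exact ⟨k, by rw [← hk]; simp⟩

/-- An element some power of which centralises, and whose prime-to-that-power part centralises. -/
theorem commute_of_two_powers {Z : Type*} [Group Z] {x w : Z} {a b : ℕ} (hab : a.Coprime b)
    (ha : Commute (x ^ a) w) (hb : Commute (x ^ b) w) : Commute x w := by
  have e : x = (x ^ a) ^ a.gcdA b * (x ^ b) ^ a.gcdB b := by
    rw [← zpow_natCast x a, ← zpow_natCast x b, ← zpow_mul, ← zpow_mul, ← zpow_add,
      ← Nat.gcd_eq_gcd_ab, hab.gcd_eq_one, Nat.cast_one, zpow_one]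
  rw [e]
  exact (ha.zpow_left _).mul_left (hb.zpow_left _)

variable [Finite Y] {p : ℕ} [Fact p.Prime]

theorem exists_coprime_split (y : Y) :
    ∃ a m : ℕ, orderOf y = p ^ a * m ∧ m.Coprime p := by
  obtain ⟨a, m, hm, he⟩ := Nat.exists_eq_pow_mul_and_not_dvd (orderOf_pos y).ne' p
    (Fact.out : p.Prime).ne_one
  exact ⟨a, m, he, ((Fact.out : p.Prime).coprime_iff_not_dvd.2 hm).symm⟩

theorem normal_of_no_torus (hp2 : p ≠ 2) (n : ℕ) :
    ∀ (Y : Type u) [Group Y] [Finite Y], Nat.card Y = n → ∀ (P : Sylow p Y) (T : Subgroup Y),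
      T ≤ Cfsg.pCore p Y → (∀ r ∈ (P : Subgroup Y), ∀ t ∈ T, r * t = t * r) →
      Subgroup.normalizer (abJ (P : Subgroup Y) : Set Y) ≤ Subgroup.normalizer (T : Set Y) →
      ¬ HasTorus p T → ∀ y : Y, y ∈ Subgroup.normalizer (T : Set Y) := by
  classical
  induction n using Nat.strong_induction_on with
  | _ n ih =>
  intro Y _ _ hn P T hTO hPT hJ hno
  have hp : p.Prime := Fact.out
  set O := Cfsg.pCore p Y with hO
  haveI hOn : O.Normal := Cfsg.pCore_normal p Y
  have hOp : IsPGroup p O := CfsgLib.CharP.isPGroup_pCore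
  have hOP : O ≤ (P : Subgroup Y) := CfsgLib.CharP.pCore_le_sylow P
  set A0 := O ⊓ Subgroup.centralizer (O : Set Y) with hA0
  haveI : A0.Normal := by rw [hA0]; infer_instance
  set V := Subgroup.normalClosure (T : Set Y) with hV
  haveI hVn : V.Normal := Subgroup.normalClosure_normal
  have hTV : T ≤ V := fun t ht => Subgroup.subset_normalClosure ht
  have hVA : V ≤ A0 := Subgroup.normalClosure_le_normal fun t ht =>
    ⟨hTO ht, Subgroup.mem_centralizer_iff.2 fun s hs => hPT s (hOP hs) t ht⟩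
  have hVcomm : ∀ a ∈ V, ∀ b ∈ V, a * b = b * a := fun a ha b hb =>
    Subgroup.mem_centralizer_iff.1 (hVA hb).2 a (hVA ha).1
  have hVc : IsMulCommutative V := ⟨⟨fun a b => Subtype.ext (hVcomm a a.2 b b.2)⟩⟩
  have hVp : IsPGroup p V := hOp.to_le (hVA.trans inf_le_left)
  have hVP : V ≤ (P : Subgroup Y) := (hVA.trans inf_le_left).trans hOP
  set C := Subgroup.centralizer (V : Set Y) with hC
  haveI hCn : C.Normal := by rw [hC]; infer_instance
  have hCT : C ≤ Subgroup.normalizer (T : Set Y) :=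
    (Subgroup.centralizer_le hTV).trans (Subgroup.centralizer_le_normalizer _)
  -- proper subgroups over `P`
  have hsub : ∀ Y1 : Subgroup Y, Y1 ≠ ⊤ → (P : Subgroup Y) ≤ Y1 →
      Y1 ≤ Subgroup.normalizer (T : Set Y) := by
    intro Y1 hY1 hPY y hy
    have hlt : Nat.card Y1 < n := by
      rw [← hn]
      exact lt_of_le_of_ne (Subgroup.card_le_card_group Y1) fun h => hY1 (Subgroup.eq_top_of_card_eq Y1 h)
    have hTY : T ≤ Y1 := (hTO.trans hOP).trans hPY
    have hmapT : (T.subgroupOf Y1).map Y1.subtype = T := Subgroup.map_subgroupOf_eq_of_le hTY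
    have key := ih _ hlt Y1 rfl (P.subtype hPY) (T.subgroupOf Y1)
      (fun t ht => CfsgLib.Constrained.le_pCore (inferInstance : (O.subgroupOf Y1).Normal)
        (hOp.comap_of_injective _ Y1.subtype_injective) (hTO ht))
      (fun r hr t ht => Subtype.ext (hPT r hr t ht))
      (fun c hc => ?_)
      (fun h => hno (by simpa only [hmapT] using h.of_map Y1.subtype Y1.subtype_injective)) ⟨y, hy⟩
    · have h1 := Subgroup.le_normalizer_map Y1.subtype ⟨_, key, rfl⟩
      rwa [hmapT] at h1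
    · have h1 := Subgroup.le_normalizer_map Y1.subtype ⟨c, hc, rfl⟩
      rw [← abJ_map _ Y1.subtype_injective, Sylow.coe_subtype,
        Subgroup.map_subgroupOf_eq_of_le hPY] at h1
      have h2 := hJ h1
      refine mem_normalizer_of_cj_le ?_
      rintro _ ⟨t, ht, rfl⟩
      exact (Subgroup.mem_normalizer_iff.1 h2 (t : Y)).1 ht
  -- normal subgroups with `p`-group image centralise `V`
  have hker : ∀ K : Subgroup Y, K.Normal → C ≤ K → (∃ j : ℕ, C.relIndex K = p ^ j) → K ≤ C := by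
    intro K hK hCK hj
    haveI := hK
    have hKT : K ≤ Subgroup.normalizer (T : Set Y) := by
      intro d hd
      obtain ⟨c, hc, s, hsP, -, rfl⟩ := exists_mul_of_relIndex_pow P hCK hj hd
      refine Subgroup.mul_mem _ (hCT hc) (Subgroup.centralizer_le_normalizer _ ?_)
      exact Subgroup.mem_centralizer_iff.2 fun t ht => (hPT s hsP t ht).symm
    intro d hd
    obtain ⟨c, hc, s, hsP, hsK, rfl⟩ := exists_mul_of_relIndex_pow P hCK hj hd
    refine C.mul_mem hc ?_
    have hle : V ≤ Subgroup.centralizer ({s} : Set Y) := by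
      rw [hV, Subgroup.normalClosure, Subgroup.closure_le]
      intro w hw
      obtain ⟨t, ht, htw⟩ := Group.mem_conjugatesOfSet_iff.1 hw
      obtain ⟨g, rfl⟩ := isConj_iff.1 htw
      obtain ⟨m, hm, d', hd', rfl⟩ := exists_frattini P K g
      have h1 : d' * t * d'⁻¹ ∈ T := (Subgroup.mem_normalizer_iff.1 (hKT hd') t).1 ht
      have h2 : m⁻¹ * s * m ∈ (P : Subgroup Y) :=
        ((Subgroup.mem_normalizer_iff''.1 hm s).1 ⟨hsP, hsK⟩).1
      refine Subgroup.mem_centralizer_singleton_iff.2 ?_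
      symm
      calc s * (m * d' * t * (m * d')⁻¹) = m * ((m⁻¹ * s * m) * (d' * t * d'⁻¹)) * m⁻¹ := by group
        _ = m * ((d' * t * d'⁻¹) * (m⁻¹ * s * m)) * m⁻¹ := by rw [hPT _ h2 _ h1]
        _ = m * d' * t * (m * d')⁻¹ * s := by group
    exact Subgroup.mem_centralizer_iff.2 fun w hw => Subgroup.mem_centralizer_singleton_iff.1 (hle hw)
  -- `J(P)` centralising `V`
  have stepA : (∀ A ∈ maxAb (P : Subgroup Y), A ≤ C) →
      ∀ y, y ∈ Subgroup.normalizer (T : Set Y) := by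
    intro hall
    have hJC : abJ (P : Subgroup Y) ≤ C := by rw [abJ_eq]; exact sSup_le hall
    have hJeq : abJ ((P : Subgroup Y) ⊓ C) = abJ (P : Subgroup Y) := by
      have ha : abOrder ((P : Subgroup Y) ⊓ C) = abOrder (P : Subgroup Y) := by
        refine le_antisymm (abOrder_mono inf_le_left) ?_
        have h := abOrder_mono (le_inf (abJ_le (P : Subgroup Y)) hJC)
        rwa [abOrder_abJ] at h
      refine le_antisymm (abJ_mono inf_le_left ha) ?_
      have h := abJ_mono (le_inf (abJ_le (P : Subgroup Y)) hJC) ((abOrder_abJ _).trans ha.symm)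
      rwa [abJ_abJ] at h
    intro y
    obtain ⟨m, hm, c, hc, rfl⟩ := exists_frattini P C y
    exact Subgroup.mul_mem _ (hJ (hJeq ▸ normalizer_le_normalizer_abJ _ hm)) (hCT hc)
  by_cases hfin : ∀ y, y ∈ Subgroup.normalizer (T : Set Y)
  · exact hfin
  exfalso
  -- a member normalised by `V` outside `C`
  obtain ⟨A, hA, hAC, hVA'⟩ : ∃ A ∈ maxAb (P : Subgroup Y), ¬ A ≤ C ∧
      V ≤ Subgroup.normalizer (A : Set Y) := by
    have hcon : ∃ A ∈ maxAb (P : Subgroup Y), ¬ A ≤ C := by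
      by_contra h
      push Not at h
      exact hfin (stepA h)
    haveI : Fintype (Subgroup Y) := Fintype.ofFinite _
    obtain ⟨A, hA, hmax⟩ := Finset.exists_max_image
      (Finset.univ.filter fun A : Subgroup Y => A ∈ maxAb (P : Subgroup Y) ∧ ¬ A ≤ C)
      (fun A => Nat.card ↥(A ⊓ V)) (let ⟨A, h⟩ := hcon; ⟨A, by simp [h.1, h.2]⟩)
    simp only [Finset.mem_filter, Finset.mem_univ, true_and] at hA hmax
    refine ⟨A, hA.1, hA.2, ?_⟩
    by_contra hnot
    obtain ⟨A', hA', hlt, hA'N⟩ := exists_replacement P.2 hVP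
      (by rw [Subgroup.normalizer_eq_top]; exact le_top) hVc hA.1 hnot
    have hA'C : A' ≤ C := by
      by_contra h
      have hcardlt : Nat.card ↥(A ⊓ V) < Nat.card ↥(A' ⊓ V) :=
        lt_of_le_of_ne (Subgroup.card_le_of_le hlt.le)
          fun e => hlt.ne (Subgroup.eq_of_le_of_card_ge hlt.le e.ge)
      exact absurd (hmax A' ⟨hA', h⟩) (by omega)
    refine hnot (le_trans ?_ hA'N)
    intro w hw
    exact mem_of_centralizes_abelian hA' (hVP hw)
      fun a ha => (Subgroup.mem_centralizer_iff.1 (hA'C ha) w hw).symm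
  have hAcomm : ∀ a ∈ A, ∀ b ∈ A, a * b = b * a := fun a ha b hb => isMulCommutative_apply hA.2.1 ha hb
  have hquad : ∀ b ∈ A, ∀ v ∈ V, b * (b * v * b⁻¹ * v⁻¹) * b⁻¹ = b * v * b⁻¹ * v⁻¹ := by
    intro b hb v hv
    have h1 : b * v * b⁻¹ * v⁻¹ ∈ A := by
      have h2 := (Subgroup.mem_normalizer_iff.1 (hVA' hv) b⁻¹).1 (A.inv_mem hb)
      simpa [mul_assoc] using A.mul_mem hb h2
    rw [hAcomm b hb _ h1, mul_inv_cancel_right]
  -- the elements of order `p` in `V`
  let V1 : Subgroup Y :=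
    { carrier := {v | v ∈ V ∧ v ^ p = 1}
      one_mem' := ⟨V.one_mem, one_pow p⟩
      mul_mem' := fun {a b} ha hb => ⟨V.mul_mem ha.1 hb.1,
        by rw [(show Commute a b from hVcomm a ha.1 b hb.1).mul_pow, ha.2, hb.2, one_mul]⟩
      inv_mem' := fun {a} ha => ⟨V.inv_mem ha.1, by rw [inv_pow, ha.2, inv_one]⟩ }
  have hV1mem : ∀ v : Y, v ∈ V1 ↔ v ∈ V ∧ v ^ p = 1 := fun v => Iff.rfl
  haveI : V1.Normal := ⟨fun v hv g => ⟨hVn.conj_mem v hv.1 g, by rw [conj_pow, hv.2]; group⟩⟩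
  have hV1V : V1 ≤ V := fun v hv => hv.1
  set φ : Y →* MulAut V1 := MulAut.conjNormal with hφ
  have hφker : φ.ker = C := by
    have hmem : ∀ y, y ∈ φ.ker ↔ ∀ v ∈ V1, y * v = v * y := by
      intro y
      rw [MonoidHom.mem_ker]
      constructor
      · intro h v hv
        have := congrArg (fun f : MulAut V1 => ((f ⟨v, hv⟩ : V1) : Y)) h
        simp only [hφ, MulAut.conjNormal_apply, MulAut.one_apply] at this
        exact mul_inv_eq_iff_eq_mul.1 this
      · intro h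
        refine MulEquiv.ext fun v => Subtype.ext ?_
        rw [hφ, MulAut.conjNormal_apply, h v v.2, mul_inv_cancel_right]
        rfl
    have hCle : C ≤ φ.ker := fun c hc => (hmem c).2 fun v hv =>
      (Subgroup.mem_centralizer_iff.1 hc v (hV1V hv)).symm
    refine le_antisymm (hker _ inferInstance hCle ?_) hCle
    -- the image on `V` of the kernel is a `p`-group
    let ψ : Y →* MulAut V := MulAut.conjNormal
    have hψker : ψ.ker = C := by
      ext y
      rw [MonoidHom.mem_ker, hC, Subgroup.mem_centralizer_iff]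
      constructor
      · intro h v hv
        have := congrArg (fun f : MulAut V => ((f ⟨v, hv⟩ : V) : Y)) h
        simp only [ψ, MulAut.conjNormal_apply, MulAut.one_apply] at this
        exact (mul_inv_eq_iff_eq_mul.1 this).symm
      · intro h
        refine MulEquiv.ext fun v => Subtype.ext ?_
        show ((MulAut.conjNormal y v : V) : Y) = v
        rw [MulAut.conjNormal_apply, ← h v v.2, mul_inv_cancel_right]
    have hp' : IsPGroup p (φ.ker.map ψ) := by
      rintro ⟨_, y, hy, rfl⟩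
      obtain ⟨a, m, he, hm⟩ := exists_coprime_split (p := p) y
      refine ⟨a, Subtype.ext ?_⟩
      show (ψ y) ^ p ^ a = 1
      rw [← map_pow, ← MonoidHom.mem_ker, hψker]
      refine Subgroup.mem_centralizer_iff.2 fun v hv => (commute_of_omega hVc hVp hp
        (fun w hw => hVn.conj_mem w hw _) ?_ (fun w hw hwp =>
          (hmem _).1 (φ.ker.pow_mem hy _) w ⟨hw, hwp⟩) v hv).symm
      rw [orderOf_pow, he]
      have : (p ^ a * m).gcd (p ^ a) = p ^ a := Nat.gcd_eq_right (Dvd.intro m rfl)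
      rw [this, Nat.mul_div_cancel_left m (pow_pos hp.pos a)]
      exact hm
    obtain ⟨j, hj⟩ := IsPGroup.iff_card.1 hp'
    refine ⟨j, ?_⟩
    have h1 := card_map_mul_ker ψ φ.ker
    rw [hj, hψker, inf_eq_right.2 hCle] at h1
    have h2 := Subgroup.relIndex_mul_relIndex ⊥ C φ.ker bot_le hCle
    rw [Subgroup.relIndex_bot_left, Subgroup.relIndex_bot_left, ← h1, mul_comm] at h2
    exact mul_right_cancel₀ Nat.card_pos.ne' h2
  -- the semidirect product
  set K := φ.range with hK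
  let G := (↥V1) ⋊[K.subtype] ↥K
  haveI : Finite K := Finite.of_surjective φ.rangeRestrict φ.rangeRestrict_surjective
  haveI : Finite G := Finite.of_equiv _ SemidirectProduct.equivProd.symm
  let il : ↥V1 →* G := SemidirectProduct.inl
  let Φ : Y →* G := SemidirectProduct.inr.comp φ.rangeRestrict
  have hΦker : Φ.ker = C := by
    rw [← hφker]
    ext y
    show SemidirectProduct.inr (φ.rangeRestrict y) = 1 ↔ φ y = 1
    rw [← (SemidirectProduct.inr : ↥K →* G).map_one, SemidirectProduct.inr_inj, Subtype.ext_iff]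
    rfl
  have hΦC : ∀ y, Φ y = 1 ↔ y ∈ C := fun y => by rw [← hΦker]; exact Iff.rfl
  have hconj : ∀ (y : Y) (v : ↥V1), Φ y * il v * (Φ y)⁻¹ = il (φ y v) :=
    fun y v => by
      show SemidirectProduct.inr (φ.rangeRestrict y) * SemidirectProduct.inl v *
        (SemidirectProduct.inr (φ.rangeRestrict y))⁻¹ = SemidirectProduct.inl (φ y v)
      rw [← map_inv, ← SemidirectProduct.inl_aut]
      rfl
  have hcomm : ∀ (y : Y) (v : ↥V1), Φ y * il v = il v * Φ y ↔ y * (v : Y) = v * y := by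
    intro y v
    rw [← mul_inv_eq_iff_eq_mul, hconj, (SemidirectProduct.inl_injective (φ := K.subtype)).eq_iff,
      ← mul_inv_eq_iff_eq_mul, Subtype.ext_iff, hφ, MulAut.conjNormal_apply]
  set V' := il.range with hV'
  set N := (Subgroup.centralizer {w : Y | ∃ v ∈ V, w = v ^ p}).map Φ with hN
  set M := (Subgroup.normalizer (T : Set Y)).map Φ with hM
  set X := Φ.range with hX
  set R := (P : Subgroup Y).map Φ with hR
  have hV'el : IsElementaryAbelian p V' := by
    refine ⟨⟨⟨?_⟩⟩, ?_⟩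
    · rintro ⟨_, a, rfl⟩ ⟨_, b, rfl⟩
      refine Subtype.ext ?_
      show il a * il b = il b * il a
      rw [← map_mul, ← map_mul]
      exact congrArg il (Subtype.ext (hVcomm _ a.2.1 _ b.2.1))
    · rintro _ ⟨a, rfl⟩
      rw [← map_pow, show a ^ p = 1 from Subtype.ext a.2.2, map_one]
  have hXV : X ≤ Subgroup.normalizer (V' : Set G) := by
    rintro _ ⟨y, rfl⟩
    refine mem_normalizer_of_cj_le ?_
    rintro _ ⟨_, ⟨v, rfl⟩, rfl⟩
    exact ⟨_, (hconj y v).symm⟩
  have hfaith : X ⊓ Subgroup.centralizer (V' : Set G) = ⊥ := by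
    rw [eq_bot_iff]
    rintro _ ⟨⟨y, rfl⟩, hy⟩
    rw [Subgroup.mem_bot, hΦC, ← hφker, MonoidHom.mem_ker]
    refine MulEquiv.ext fun v => ?_
    have h1 := Subgroup.mem_centralizer_iff.1 hy (il v) ⟨v, rfl⟩
    have h2 := hconj y v
    rw [← h1, mul_inv_cancel_right] at h2
    exact (SemidirectProduct.inl_injective h2).symm
  have hXN : X ≤ Subgroup.normalizer (N : Set G) := by
    haveI : (Subgroup.centralizer {w : Y | ∃ v ∈ V, w = v ^ p}).Normal := by
      refine ⟨fun t ht c => Subgroup.mem_centralizer_iff.2 ?_⟩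
      rintro _ ⟨w, hw, rfl⟩
      have h1 := Subgroup.mem_centralizer_iff.1 ht _
        (⟨c⁻¹ * w * c, by simpa using hVn.conj_mem w hw c⁻¹, rfl⟩ : ∃ v ∈ V, (c⁻¹ * w * c) ^ p = v ^ p)
      have h2 : (c⁻¹ * w * c) ^ p = c⁻¹ * w ^ p * c := by
        rw [show c⁻¹ * w * c = c⁻¹ * w * c⁻¹⁻¹ by group, conj_pow, inv_inv]
      rw [h2] at h1
      calc w ^ p * (c * t * c⁻¹) = c * ((c⁻¹ * w ^ p * c) * t) * c⁻¹ := by group
        _ = c * (t * (c⁻¹ * w ^ p * c)) * c⁻¹ := by rw [h1]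
        _ = c * t * c⁻¹ * w ^ p := by group
    rintro _ ⟨y, rfl⟩
    exact Subgroup.le_normalizer_map Φ ⟨y, by rw [Subgroup.normalizer_eq_top]; trivial, rfl⟩
  have hmemM : ∀ y, Φ y ∈ M → y ∈ Subgroup.normalizer (T : Set Y) := by
    rintro y ⟨m, hm, hmy⟩
    have h1 : m⁻¹ * y ∈ C := (hΦC _).1 (by rw [map_mul, map_inv, hmy, inv_mul_cancel])
    simpa using Subgroup.mul_mem _ hm (hCT h1)
  have hPN : (P : Subgroup Y) ≤ Subgroup.normalizer (T : Set Y) := fun r hr =>
    Subgroup.centralizer_le_normalizer _ (Subgroup.mem_centralizer_iff.2 fun t ht => (hPT r hr t ht).symm)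
  have hRM : R ≤ M := Subgroup.map_mono hPN
  have hXM : ¬ X ≤ M := fun h => hfin fun y => hmemM y (h ⟨y, rfl⟩)
  have hRmax : MaxP p X R := by
    refine ⟨Subgroup.map_le_range Φ _, P.2.map Φ, fun Q hQ hQp hle => ?_⟩
    have h1 : R.relIndex X ∣ (P : Subgroup Y).index := by
      have h0 := Subgroup.relIndex_map_map Φ (P : Subgroup Y) ⊤
      rw [← MonoidHom.range_eq_map, top_sup_eq] at h0
      rw [hR, hX, h0, ← Subgroup.relIndex_top_right]
      exact Subgroup.relIndex_dvd_of_le_left _ le_sup_left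
    have h2 : R.relIndex Q ∣ R.relIndex X := by
      rw [← Subgroup.relIndex_mul_relIndex R Q X hle hQ]
      exact dvd_mul_right _ _
    obtain ⟨j, hj⟩ := IsPGroup.iff_card.1 hQp
    have h3 : R.relIndex Q ∣ p ^ j := hj ▸ Subgroup.relIndex_dvd_card R Q
    obtain ⟨i, -, hi⟩ := (Nat.dvd_prime_pow hp).1 h3
    rcases Nat.eq_zero_or_pos i with rfl | hipos
    · exact le_antisymm (Subgroup.relIndex_eq_one.1 (by simpa using hi)) hle
    · exfalso
      refine P.not_dvd_index ?_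
      exact ((dvd_pow_self p hipos.ne').trans (hi ▸ h2)).trans h1
  have hover : ∀ Z : Subgroup G, Z ≤ X → Z ≠ X → R ≤ Z → Z ≤ M := by
    intro Z hZ hZne hRZ
    have hpre : Z.comap Φ ≤ Subgroup.normalizer (T : Set Y) := by
      refine hsub _ (fun e => hZne (le_antisymm hZ ?_)) (Subgroup.map_le_iff_le_comap.1 hRZ)
      rintro _ ⟨y, rfl⟩
      exact (e.ge trivial : y ∈ Z.comap Φ)
    intro z hz
    obtain ⟨y, rfl⟩ := hZ hz
    exact ⟨y, hpre hz, rfl⟩
  -- no normal `p`-subgroup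
  have hnocore : ∀ N' : Subgroup G, N' ≤ X → X ≤ Subgroup.normalizer (N' : Set G) → IsPGroup p N' →
      N' = ⊥ := by
    intro N' hN'X hXN' hN'p
    have hn' : (N'.comap Φ).Normal := ⟨fun y hy g => by
      show Φ (g * y * g⁻¹) ∈ N'
      rw [map_mul, map_mul, map_inv]
      exact (Subgroup.mem_normalizer_iff.1 (hXN' ⟨g, rfl⟩) _).1 hy⟩
    have hC' : C ≤ N'.comap Φ := fun c hc => by
      show Φ c ∈ N'
      rw [(hΦC c).2 hc]
      exact N'.one_mem
    have h1 := hker _ hn' hC' ?_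
    · rw [eq_bot_iff]
      intro x hx
      obtain ⟨y, rfl⟩ := hN'X hx
      rw [Subgroup.mem_bot, hΦC]
      exact h1 hx
    · obtain ⟨j, hj⟩ := IsPGroup.iff_card.1 hN'p
      refine ⟨j, ?_⟩
      have h1 := card_map_mul_ker Φ (N'.comap Φ)
      rw [Subgroup.map_comap_eq_self hN'X, hj, hΦker, inf_eq_right.2 hC'] at h1
      have h2 := Subgroup.relIndex_mul_relIndex ⊥ C (N'.comap Φ) bot_le hC'
      rw [Subgroup.relIndex_bot_left, Subgroup.relIndex_bot_left, ← h1, mul_comm] at h2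
      exact mul_right_cancel₀ Nat.card_pos.ne' h2
  -- the offender
  set B0 := A.map Φ with hB0
  have hB0el : IsElementaryAbelian p B0 := by
    refine ⟨⟨⟨?_⟩⟩, ?_⟩
    · rintro ⟨_, a, ha, rfl⟩ ⟨_, b, hb, rfl⟩
      exact Subtype.ext (show Φ a * Φ b = Φ b * Φ a by rw [← map_mul, ← map_mul, hAcomm a ha b hb])
    · rintro _ ⟨a, ha, rfl⟩
      rw [← map_pow, hΦC, ← hφker, MonoidHom.mem_ker]
      refine MulEquiv.ext fun v => Subtype.ext ?_
      rw [hφ, MulAut.conjNormal_apply, MulAut.one_apply]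
      set d := a * (v : Y) * a⁻¹ * (v : Y)⁻¹ with hd
      have hdV1 : d ∈ V1 := V1.mul_mem ((inferInstance : V1.Normal).conj_mem _ v.2 a) (V1.inv_mem v.2)
      have h1 := pow_conj_of_commute (w := (v : Y)) (show a * v * a⁻¹ = d * v by rw [hd]; group)
        (hquad a ha v v.2.1) p
      rw [h1, hdV1.2, one_mul]
  have hB0ne : B0 ≠ ⊥ := fun e => hAC fun a ha =>
    (hΦC a).1 (Subgroup.mem_bot.1 (e ▸ (⟨a, ha, rfl⟩ : Φ a ∈ B0)))
  have hB0N : B0 ≤ N := by
    rintro _ ⟨a, ha, rfl⟩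
    refine ⟨a, Subgroup.mem_centralizer_iff.2 ?_, rfl⟩
    rintro _ ⟨v, hv, rfl⟩
    set d := a * v * a⁻¹ * v⁻¹ with hd
    have hav : a * v * a⁻¹ = d * v := by rw [hd]; group
    have hpc : a ^ p ∈ C := (hΦC _).1 (by rw [map_pow]; exact hB0el.2 _ ⟨a, ha, rfl⟩)
    have hdp : d ^ p = 1 := by
      have h1 := pow_conj_of_commute (w := v) hav (hquad a ha v hv) p
      rw [← Subgroup.mem_centralizer_iff.1 hpc v hv, mul_inv_cancel_right] at h1
      exact mul_eq_right.1 h1.symm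
    have hdV : d ∈ V := V.mul_mem (hVn.conj_mem v hv a) (V.inv_mem hv)
    have h2 : a * v ^ p * a⁻¹ = v ^ p := by
      rw [← conj_pow, hav, (show Commute d v from hVcomm d hdV v hv).mul_pow, hdp, one_mul]
    exact (mul_inv_eq_iff_eq_mul.1 h2).symm
  have hVC : V ≤ C := fun v hv => Subgroup.mem_centralizer_iff.2 fun w hw => hVcomm w hw v hv
  have hB0bound : Nat.card V' ≤ Nat.card B0 * Nat.card ↥(V' ⊓ Subgroup.centralizer (B0 : Set G)) := by
    have hA1c : IsMulCommutative (A ⊓ C ⊔ V : Subgroup Y) := by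
      rw [Subgroup.sup_eq_closure]
      refine Subgroup.isMulCommutative_closure ?_
      rintro x (hx | hx) y (hy | hy)
      · exact hAcomm x hx.1 y hy.1
      · exact (Subgroup.mem_centralizer_iff.1 hx.2 y hy).symm
      · exact Subgroup.mem_centralizer_iff.1 hy.2 x hx
      · exact hVcomm x hx y hy
    have h1 : Nat.card ↥(A ⊓ C ⊔ V) ≤ Nat.card A :=
      (card_le_abOrder (sup_le (inf_le_left.trans hA.1) hVP) hA1c).trans_eq (card_eq_abOrder hA).symm
    have h2 := MinParFF.card_sup_mul_inf (A := A ⊓ C) (B := V)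
      (fun v hv => Subgroup.mem_normalizer_iff.2 fun x => by
        constructor
        · intro hx; exact ⟨(Subgroup.mem_normalizer_iff.1 (hVA' hv) x).1 hx.1, hCn.conj_mem x hx.2 v⟩
        · intro hx
          refine ⟨(Subgroup.mem_normalizer_iff.1 (hVA' hv) x).2 hx.1, ?_⟩
          simpa [mul_assoc] using hCn.conj_mem _ hx.2 v⁻¹)
    rw [inf_assoc, inf_eq_right.2 hVC] at h2
    have h3 := card_map_mul_ker Φ A
    rw [hΦker] at h3
    have h4 := MinParFF.card_sup_mul_inf (A := V1) (B := A ⊓ V)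
      (by rw [Subgroup.normalizer_eq_top]; exact le_top)
    rw [show V1 ⊓ (A ⊓ V) = A ⊓ V1 by
      rw [inf_left_comm, inf_eq_left.2 hV1V]] at h4
    have h5 : Nat.card ↥(V1 ⊔ A ⊓ V) ≤ Nat.card V := Subgroup.card_le_of_le (sup_le hV1V inf_le_right)
    have h6 : Nat.card ↥(A ⊓ V1) ≤ Nat.card ↥(V' ⊓ Subgroup.centralizer (B0 : Set G)) := by
      refine Nat.card_le_card_of_injective (fun w => ⟨il ⟨w, w.2.2⟩, ⟨_, rfl⟩,
        Subgroup.mem_centralizer_iff.2 ?_⟩) ?_
      · rintro _ ⟨a, ha, rfl⟩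
        exact (hcomm a _).2 (hAcomm a ha w w.2.1)
      · intro w w' e
        exact Subtype.ext (congrArg (fun v : ↥V1 => (v : Y))
          (SemidirectProduct.inl_injective (congrArg Subtype.val e)))
    have hcV : Nat.card V' = Nat.card V1 :=
      (Nat.card_congr (MonoidHom.ofInjective SemidirectProduct.inl_injective).toEquiv).symm
    rw [hcV, ← hB0]at *
    have e1 : Nat.card ↥(A ⊓ C) * Nat.card V ≤ Nat.card A * Nat.card ↥(A ⊓ V) := by
      rw [← h2]; exact Nat.mul_le_mul h1 le_rfl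
    have e2 : Nat.card V ≤ Nat.card B0 * Nat.card ↥(A ⊓ V) := by
      rw [← h3] at e1
      refine Nat.le_of_mul_le_mul_left (c := Nat.card ↥(A ⊓ C)) ?_ Nat.card_pos
      linarith
    have e3 : Nat.card V1 * Nat.card ↥(A ⊓ V) ≤
        Nat.card B0 * Nat.card ↥(A ⊓ V1) * Nat.card ↥(A ⊓ V) := by
      rw [← h4]
      calc _ ≤ Nat.card V * Nat.card ↥(A ⊓ V1) := Nat.mul_le_mul h5 le_rfl
        _ ≤ Nat.card B0 * Nat.card ↥(A ⊓ V) * Nat.card ↥(A ⊓ V1) := Nat.mul_le_mul e2 le_rfl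
        _ = _ := by ring
    exact (Nat.le_of_mul_le_mul_right e3 Nat.card_pos).trans (Nat.mul_le_mul le_rfl h6)
  obtain ⟨B, hBoff, hBR⟩ : ∃ B, Off p V' N B ∧ B ≤ R := by
    haveI : Fintype (Subgroup G) := Fintype.ofFinite _
    obtain ⟨B, hB, hmin⟩ := Finset.exists_min_image
      (Finset.univ.filter fun B : Subgroup G => B ≤ B0 ∧ B ≠ ⊥ ∧
        Nat.card V' ≤ Nat.card B * Nat.card ↥(V' ⊓ Subgroup.centralizer (B : Set G)))
      (fun B => Nat.card B) ⟨B0, Finset.mem_filter.2 ⟨Finset.mem_univ _, le_rfl, hB0ne, hB0bound⟩⟩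
    simp only [Finset.mem_filter, Finset.mem_univ, true_and] at hB hmin
    obtain ⟨hBle, hB1, hBb⟩ := hB
    haveI := hB0el.1
    refine ⟨B, ⟨hBle.trans hB0N, ⟨⟨⟨fun a b => Subtype.ext (setLike_mul_comm (hBle a.2) (hBle b.2))⟩⟩,
      fun a ha => hB0el.2 a (hBle ha)⟩, hB1, hBb, fun B' hB' hB'1 hne => ?_⟩,
      hBle.trans (Subgroup.map_mono hA.1)⟩
    refine lt_of_lt_of_le ?_ hBb
    by_contra h
    push Not at h
    exact hne (Subgroup.eq_of_le_of_card_ge hB' (hmin B' ⟨hB'.trans hBle, hB'1, h⟩))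
  have hBcore : ¬ InCore p X B := by
    rintro ⟨N', hN'X, hXN', hN'p, hBN'⟩
    exact hBoff.ne (le_bot_iff.1 (hBN'.trans (hnocore N' hN'X hXN' hN'p).le))
  obtain ⟨L, R₀, A', hLX, hgen⟩ := exists_generated V' N M _ X R rfl hXV hXN hRmax hRM hXM hover
    ⟨B, hBoff, hBR, hBcore⟩
  set L' := L.comap Φ with hL'
  set R' := R₀.comap Φ with hR'
  have hLmap : L'.map Φ = L := Subgroup.map_comap_eq_self hLX
  -- elements over `R₀` centralise `T`
  have hR'T : ∀ r ∈ R', ∀ t ∈ T, r * t = t * r := by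
    intro r hr t ht
    have hrN : r ∈ Subgroup.normalizer (T : Set Y) := hmemM r (hgen.R_le hr)
    obtain ⟨a, m, he, hm⟩ := exists_coprime_split (p := p) r
    obtain ⟨e, he'⟩ := hgen.max.2.1 ⟨Φ r, hr⟩
    have hC1 : r ^ p ^ e ∈ C := (hΦC _).1 (by rw [map_pow]; exact congrArg Subtype.val he')
    have hC2 : Commute (r ^ m) t := by
      set NT := Subgroup.normalizer (T : Set Y)
      have hzp : IsPGroup p (Subgroup.zpowers (⟨r ^ m, NT.pow_mem hrN m⟩ : NT)) := by
        refine IsPGroup.of_card (n := a) ?_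
        rw [Nat.card_zpowers, Subgroup.orderOf_mk, orderOf_pow, he]
        have hm0 : 0 < m := Nat.pos_of_ne_zero fun h0 => by
          have := orderOf_pos r
          rw [he, h0, mul_zero] at this
          omega
        rw [Nat.gcd_eq_right (Dvd.intro_left (p ^ a) rfl), Nat.mul_div_cancel _ hm0]
      obtain ⟨⟨c, hc⟩, hle⟩ := exists_le_cj (P.subtype hPN) hzp
      have h1 := mem_cj.1 (hle (Subgroup.mem_zpowers _))
      have h2 : c⁻¹ * r ^ m * c ∈ (P : Subgroup Y) := h1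
      have h3 : c⁻¹ * t * c ∈ T := (Subgroup.mem_normalizer_iff''.1 hc t).1 ht
      show r ^ m * t = t * r ^ m
      calc r ^ m * t = c * ((c⁻¹ * r ^ m * c) * (c⁻¹ * t * c)) * c⁻¹ := by group
        _ = c * ((c⁻¹ * t * c) * (c⁻¹ * r ^ m * c)) * c⁻¹ := by rw [hPT _ h2 _ h3]
        _ = t * r ^ m := by group
    exact commute_of_two_powers ((Nat.Coprime.pow_left e hm.symm))
      (Subgroup.mem_centralizer_iff.1 hC1 t (hTV ht)).symm hC2
  -- elements over `L` centralise `p`-th powers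
  have hLpow : ∀ l ∈ L', ∀ v ∈ V, l * v ^ p = v ^ p * l := by
    intro l hl v hv
    have hgenL : L ≤ N := hgen.le_of_invariant (hLX.trans hXN) hgen.off.le
    obtain ⟨k, hk, hkl⟩ := hgenL hl
    have h1 : k⁻¹ * l ∈ C := (hΦC _).1 (by rw [map_mul, map_inv, hkl, inv_mul_cancel])
    have h2 := Subgroup.mem_centralizer_iff.1 h1 (v ^ p) (V.pow_mem hv p)
    have h3 := Subgroup.mem_centralizer_iff.1 hk (v ^ p) ⟨v, hv, rfl⟩
    calc l * v ^ p = k * ((k⁻¹ * l) * v ^ p) := by group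
      _ = k * (v ^ p * (k⁻¹ * l)) := by rw [h2]
      _ = (k * v ^ p) * (k⁻¹ * l) := (mul_assoc _ _ _).symm
      _ = v ^ p * k * (k⁻¹ * l) := by rw [h3]
      _ = v ^ p * l := by group
  -- an element moved by `L`
  obtain ⟨x, hxL, t, ht, hxt⟩ : ∃ x ∈ L', ∃ t ∈ T, x * t ≠ t * x := by
    by_contra hcon
    push Not at hcon
    refine hgen.not_le ?_
    rw [← hLmap]
    refine Subgroup.map_mono fun l hl => Subgroup.centralizer_le_normalizer _ ?_
    exact Subgroup.mem_centralizer_iff.2 fun t ht => (hcon l hl t ht).symm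
  haveI := hVc
  letI : CommGroup ↥V := { (inferInstance : Group ↥V) with mul_comm := fun a b => Subtype.ext (hVcomm a a.2 b b.2) }
  set S := R'.subgroupOf L' with hS
  let tV : ↥V := ⟨t, hTV ht⟩
  let f : ↥L' ⧸ S → ↥V := fun q => Quotient.liftOn' q (fun l => ⟨l * t * (l : Y)⁻¹, hVn.conj_mem t (hTV ht) l⟩)
    (fun l l' h => by
      rw [QuotientGroup.leftRel_apply] at h
      refine Subtype.ext ?_
      have h1 : ((l : Y)⁻¹ * l') * t = t * ((l : Y)⁻¹ * l') := hR'T _ h t ht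
      calc (l : Y) * t * (l : Y)⁻¹ = l * (t * ((l : Y)⁻¹ * l')) * (l' : Y)⁻¹ := by group
        _ = l * (((l : Y)⁻¹ * l') * t) * (l' : Y)⁻¹ := by rw [← h1]
        _ = l' * t * (l' : Y)⁻¹ := by group)
  haveI : Fintype (↥L' ⧸ S) := Fintype.ofFinite _
  set τ : ↥V := ∏ q, f q with hτ
  have hτfix : ∀ l ∈ L', l * (τ : Y) * l⁻¹ = τ := by
    intro l hl
    let c : ↥V →* ↥V :=
      { toFun := fun v => ⟨l * v * l⁻¹, hVn.conj_mem v v.2 l⟩
        map_one' := Subtype.ext (by simp)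
        map_mul' := fun a b => Subtype.ext (by simp [mul_assoc]) }
    have h1 : c τ = τ := by
      rw [hτ, map_prod]
      refine Fintype.prod_equiv (MulAction.toPerm (⟨l, hl⟩ : ↥L')) _ _ fun q => ?_
      induction q using Quotient.inductionOn' with
      | h q =>
        refine Subtype.ext ?_
        show l * (q * t * (q : Y)⁻¹) * l⁻¹ = (l * q) * t * (l * (q : Y))⁻¹
        group
    exact congrArg Subtype.val h1
  set i := Nat.card (↥L' ⧸ S) with hi
  have hicop : i.Coprime p := by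
    have h0 : R'.relIndex L' = R₀.relIndex L := by rw [hR', Subgroup.relIndex_comap, hLmap]
    have h1 : i = R₀.relIndex L := h0
    rw [h1]
    refine (hp.coprime_iff_not_dvd.2 ?_).symm
    let S₀ : Sylow p ↥L :=
      ⟨R₀.subgroupOf L, hgen.max.2.1.comap_of_injective _ L.subtype_injective, fun {Q} hQ hle => by
        have h1 := hgen.max.2.2 (Q.map L.subtype) (Subgroup.map_subtype_le _) (hQ.map _)
          (by rw [← Subgroup.map_subgroupOf_eq_of_le hgen.max.1]; exact Subgroup.map_mono hle)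
        rw [← h1, Subgroup.subgroupOf, Subgroup.comap_map_eq_self_of_injective L.subtype_injective]⟩
    exact S₀.not_dvd_index
  set zV : ↥V := tV ^ i * τ⁻¹ with hzV
  set z := (zV : Y) with hz
  have hzp : z ^ p = 1 := by
    have hfp : ∀ q, f q ^ p = tV ^ p := by
      intro q
      induction q using Quotient.inductionOn' with
      | h q =>
        refine Subtype.ext ?_
        show ((q : Y) * t * (q : Y)⁻¹) ^ p = t ^ p
        rw [conj_pow, hLpow q q.2 t (hTV ht), mul_inv_cancel_right]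
    have h1 : zV ^ p = 1 := by
      rw [hzV, mul_pow, inv_pow, hτ, ← Finset.prod_pow, Finset.prod_congr rfl fun q _ => hfp q,
        Finset.prod_const, Finset.card_univ, ← Nat.card_eq_fintype_card, ← hi, ← pow_mul, ← pow_mul,
        mul_comm p i, mul_inv_cancel]
    exact congrArg Subtype.val h1
  have hzV1 : z ∈ V1 := ⟨zV.2, hzp⟩
  have hzfix : ∀ y ∈ L', y * t = t * y → y * z = z * y := by
    intro y hy hyt
    have h1 : Commute y (τ : Y) := mul_inv_eq_iff_eq_mul.1 (hτfix y hy)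
    exact ((show Commute y t from hyt).pow_right i).mul_right h1.inv_right
  have hzR : ∀ r ∈ R₀, r * il ⟨z, hzV1⟩ = il ⟨z, hzV1⟩ * r := by
    intro r hr
    obtain ⟨y, rfl⟩ := hLX (hgen.max.1 hr)
    exact (hcomm y _).2 (hzfix y (hgen.max.1 hr) (hR'T y hr t ht))
  have hxz : x * z ≠ z * x := by
    intro h
    have h1 : Commute x (τ : Y) := mul_inv_eq_iff_eq_mul.1 (hτfix x hxL)
    have h2 : Commute x (t ^ i) := by
      have h3 := (show Commute x z from h).mul_right h1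
      rw [show z * (τ : Y) = t ^ i by simp [hz, hzV, tV]] at h3
      exact h3
    obtain ⟨e, he⟩ := hVp tV
    refine hxt (commute_of_two_powers (Nat.Coprime.pow_right e hicop) h2.symm ?_).symm
    rw [show t ^ p ^ e = 1 from congrArg Subtype.val he]
    exact Commute.one_left _
  obtain ⟨h, hhLM, m, hmcop, hhm, hmove, htrans⟩ := exists_torus_element hp2 hgen hV'el
    (le_bot_iff.1 ((inf_le_inf_right _ hLX).trans hfaith.le))
    ⟨il ⟨z, hzV1⟩, ⟨_, rfl⟩, hzR, Φ x, hxL, fun e => hxz ((hcomm x _).1 e)⟩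
  obtain ⟨g, hg, rfl⟩ := hhLM.2
  have hgL : g ∈ L' := hhLM.1
  have hWmem : ∀ w : ↥V1, (w : Y) ∈ T ∨ (w : Y) = z →
      il w ∈ V' ⊓ Subgroup.centralizer (A' : Set G) := by
    intro w hw
    refine ⟨⟨w, rfl⟩, Subgroup.mem_centralizer_iff.2 fun a ha => ?_⟩
    obtain ⟨y, rfl⟩ := hLX (hgen.max.1 (hgen.A_le ha))
    refine (hcomm y w).2 ?_
    rcases hw with hw | hw
    · exact hR'T y (hgen.A_le ha) _ hw
    · rw [hw]
      exact hzfix y (hgen.max.1 (hgen.A_le ha)) (hR'T y (hgen.A_le ha) t ht)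
  have hgt : g * t ≠ t * g := by
    intro e
    refine hmove (il ⟨z, hzV1⟩) (hWmem _ (Or.inr rfl)) (fun hc => hxz ?_) ((hcomm g _).2 (hzfix g hgL e))
    exact (hcomm x _).1 (Subgroup.mem_centralizer_iff.1 hc (Φ x) hxL)
  have hgm : ∀ v ∈ V, g ^ m * v = v * g ^ m := fun v hv =>
    (Subgroup.mem_centralizer_iff.1 ((hΦC _).1 (by rw [map_pow, hhm])) v hv).symm
  refine hno ⟨g, hg, ⟨m, hmcop, fun s hs => hgm s (hTV hs)⟩, ⟨t, ht, hgt⟩, ?_⟩
  have hdelta : ∀ d ∈ twist g T, ∃ s ∈ T, d = g * s * g⁻¹ * s⁻¹ := by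
    intro d hd
    refine Subgroup.closure_induction (fun d hd => hd) ⟨1, T.one_mem, by group⟩ ?_ ?_ hd
    · rintro _ _ - - ⟨s, hs, rfl⟩ ⟨s', hs', rfl⟩
      refine ⟨s * s', T.mul_mem hs hs', ?_⟩
      have hc := hVcomm s⁻¹ (V.inv_mem (hTV hs)) _ (V.mul_mem (hVn.conj_mem s' (hTV hs') g) (V.inv_mem (hTV hs')))
      calc g * s * g⁻¹ * s⁻¹ * (g * s' * g⁻¹ * s'⁻¹)
          = g * s * g⁻¹ * (s⁻¹ * (g * s' * g⁻¹ * s'⁻¹)) := by group
        _ = g * s * g⁻¹ * ((g * s' * g⁻¹ * s'⁻¹) * s⁻¹) := by rw [hc]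
        _ = g * (s * s') * g⁻¹ * (s * s')⁻¹ := by
            rw [mul_inv_rev]
            group
    · rintro _ - ⟨s, hs, rfl⟩
      refine ⟨s⁻¹, T.inv_mem hs, ?_⟩
      have hc := hVcomm _ (hVn.conj_mem s⁻¹ (V.inv_mem (hTV hs)) g) s (hTV hs)
      calc (g * s * g⁻¹ * s⁻¹)⁻¹ = s * (g * s⁻¹ * g⁻¹) := by group
        _ = g * s⁻¹ * g⁻¹ * s⁻¹⁻¹ := by rw [← hc, inv_inv]
  have htwistT : ∀ d ∈ twist g T, d ∈ T ∧ d ∈ V1 := by
    intro d hd
    obtain ⟨s, hs, rfl⟩ := hdelta d hd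
    have h1 : g * s * g⁻¹ * s⁻¹ ∈ T := T.mul_mem ((Subgroup.mem_normalizer_iff.1 hg s).1 hs) (T.inv_mem hs)
    refine ⟨h1, hTV h1, ?_⟩
    rw [(show Commute (g * s * g⁻¹) s⁻¹ from
      hVcomm _ (hVn.conj_mem s (hTV hs) g) _ (V.inv_mem (hTV hs))).mul_pow, conj_pow,
      hLpow g hgL s (hTV hs), mul_inv_cancel_right, inv_pow, mul_inv_cancel]
  have hfixone : ∀ d ∈ twist g T, g * d = d * g → d = 1 := by
    intro d hd hgd
    obtain ⟨s, hs, rfl⟩ := hdelta d hd
    have h1 := pow_conj_of_commute (w := s) (show g * s * g⁻¹ = (g * s * g⁻¹ * s⁻¹) * s by group)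
      (by rw [hgd, mul_inv_cancel_right]) m
    rw [hgm s (hTV hs), mul_inv_cancel_right] at h1
    exact orderOf_eq_one_iff.1 (Nat.eq_one_of_dvd_coprimes hmcop
      (orderOf_dvd_of_pow_eq_one (mul_eq_right.1 h1.symm))
      (orderOf_dvd_of_pow_eq_one (htwistT _ hd).2.2))
  intro a ha b hb ha1 hb1
  let ia : ↥V1 := ⟨a, (htwistT a ha).2⟩
  let ib : ↥V1 := ⟨b, (htwistT b hb).2⟩
  have hnc : ∀ d ∈ twist g T, d ≠ 1 → ∀ hd : d ∈ V1,
      il ⟨d, hd⟩ ∉ Subgroup.centralizer (L : Set G) := by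
    intro d hd hd1 hd2 hc
    exact hd1 (hfixone d hd ((hcomm g _).1 (Subgroup.mem_centralizer_iff.1 hc (Φ g) hgL)))
  obtain ⟨k, hk⟩ := htrans (il ia) (hWmem ia (Or.inl (htwistT a ha).1)) (il ib)
    (hWmem ib (Or.inl (htwistT b hb).1)) (hnc a ha ha1 _) (hnc b hb hb1 _)
  refine ⟨k, ?_⟩
  rw [← map_pow, hconj, ← map_inv, ← map_mul] at hk
  set c := ib⁻¹ * φ (g ^ k) ia with hc
  have hgk : ((φ (g ^ k) ia : ↥V1) : Y) = g ^ k * a * (g ^ k)⁻¹ := MulAut.conjNormal_apply _ _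
  have hcy : (c : Y) = b⁻¹ * (g ^ k * a * (g ^ k)⁻¹) := by
    rw [hc, Subgroup.coe_mul, Subgroup.coe_inv, hgk]
  have hinv : ∀ j : ℕ, g ^ j * a * (g ^ j)⁻¹ ∈ twist g T := by
    intro j
    induction j with
    | zero => simpa using ha
    | succ j ihj =>
      obtain ⟨s, hs, hse⟩ := hdelta _ ihj
      refine Subgroup.subset_closure ⟨g * s * g⁻¹, (Subgroup.mem_normalizer_iff.1 hg s).1 hs, ?_⟩
      calc g ^ (j + 1) * a * (g ^ (j + 1))⁻¹ = g * (g ^ j * a * (g ^ j)⁻¹) * g⁻¹ := by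
            rw [pow_succ']; group
        _ = _ := by rw [hse]; group
  have hct : (c : Y) ∈ twist g T := by
    rw [hcy]
    exact Subgroup.mul_mem _ (Subgroup.inv_mem _ hb) (hinv k)
  have h1 := hfixone _ hct ((hcomm g c).1 (Subgroup.mem_centralizer_iff.1 hk (Φ g) hgL))
  rw [hcy, inv_mul_eq_one] at h1
  exact h1.symm

end CfsgLib.TorusClosure
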