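import Cfsg.Agent.TorusClosure.Core

/-!
The torus of the group generated by two minimal offenders.
-/

set_option autoImplicit false
set_option linter.style.haveILetI false
set_option linter.unusedSectionVars false

open Cfsg Matrix

namespace CfsgLib.TorusClosure

section SL

variable {F : Type*} [Field F]

/-- A nonzero vector is the first column of a matrix of determinant one. -/
theorem exists_sl_first (e : Fin 2 → F) (he : e ≠ 0) :
    ∃ P : SpecialLinearGroup (Fin 2) F, (P : Matrix (Fin 2) (Fin 2) F).mulVec ![1, 0] = e := by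
  by_cases h0 : e 0 = 0
  · have h1 : e 1 ≠ 0 := fun h1 => he (by ext i; fin_cases i <;> assumption)
    refine ⟨⟨!![0, -(e 1)⁻¹; e 1, 0], by simp [h1]⟩, ?_⟩
    ext i
    fin_cases i <;> simp [h0]
  · refine ⟨⟨!![e 0, 0; e 1, (e 0)⁻¹], by simp [h0]⟩, ?_⟩
    ext i
    fin_cases i <;> simp

/-- The diagonal torus. -/
def diag : Fˣ →* SpecialLinearGroup (Fin 2) F where
  toFun u := ⟨!![(u : F), 0; 0, ((u⁻¹ : Fˣ) : F)], by simp⟩
  map_one' := by
    ext i j
    fin_cases i <;> fin_cases j <;> simp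
  map_mul' u v := by
    refine Subtype.ext ?_
    show !![((u * v : Fˣ) : F), 0; 0, (((u * v)⁻¹ : Fˣ) : F)] =
      !![(u : F), 0; 0, ((u⁻¹ : Fˣ) : F)] * !![(v : F), 0; 0, ((v⁻¹ : Fˣ) : F)]
    rw [Matrix.mul_fin_two]
    simp [mul_comm]

theorem coe_mul_mulVec (A B : SpecialLinearGroup (Fin 2) F) (v : Fin 2 → F) :
    ((A * B : SpecialLinearGroup (Fin 2) F) : Matrix (Fin 2) (Fin 2) F).mulVec v =
      (A : Matrix (Fin 2) (Fin 2) F).mulVec ((B : Matrix (Fin 2) (Fin 2) F).mulVec v) := by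
  rw [Matrix.SpecialLinearGroup.coe_mul, mulVec_mulVec]

theorem coe_inv_mulVec (A : SpecialLinearGroup (Fin 2) F) (v : Fin 2 → F) :
    ((A⁻¹ : SpecialLinearGroup (Fin 2) F) : Matrix (Fin 2) (Fin 2) F).mulVec
      ((A : Matrix (Fin 2) (Fin 2) F).mulVec v) = v := by
  rw [← coe_mul_mulVec, inv_mul_cancel, Matrix.SpecialLinearGroup.coe_one, one_mulVec]

/-- A matrix with eigenvalue `u` on a given nonzero vector, powering with `u`. -/
theorem exists_torus (e : Fin 2 → F) (he : e ≠ 0) (u : Fˣ) :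
    ∃ h : SpecialLinearGroup (Fin 2) F, (h : Matrix (Fin 2) (Fin 2) F).mulVec e = (u : F) • e ∧
      ∀ m : ℕ, u ^ m = 1 → h ^ m = 1 := by
  obtain ⟨P, hP⟩ := exists_sl_first e he
  refine ⟨P * diag u * P⁻¹, ?_, fun m hm => ?_⟩
  · conv_lhs => rw [← hP, coe_mul_mulVec, coe_inv_mulVec, coe_mul_mulVec]
    have h1 : ((diag u : SpecialLinearGroup (Fin 2) F) : Matrix (Fin 2) (Fin 2) F).mulVec ![1, 0] =
        (u : F) • ![1, 0] := by
      show (!![(u : F), 0; 0, ((u⁻¹ : Fˣ) : F)]).mulVec ![1, 0] = _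
      ext i
      fin_cases i <;> simp
    rw [h1, mulVec_smul, hP]
  · rw [← MulAut.conj_apply, ← map_pow, ← map_pow, hm, map_one, map_one]

/-- Some matrix moves a given nonzero vector out of its line. -/
theorem exists_moving (e : Fin 2 → F) (he : e ≠ 0) :
    ∃ g : SpecialLinearGroup (Fin 2) F, ∀ c : F, (g : Matrix (Fin 2) (Fin 2) F).mulVec e ≠ c • e := by
  obtain ⟨P, hP⟩ := exists_sl_first e he
  let w : SpecialLinearGroup (Fin 2) F := ⟨!![0, -1; 1, 0], by simp⟩
  refine ⟨P * w * P⁻¹, fun c hc => ?_⟩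
  rw [coe_mul_mulVec, coe_mul_mulVec, ← hP, coe_inv_mulVec, ← mulVec_smul] at hc
  have h3 := congrArg (((P⁻¹ : SpecialLinearGroup (Fin 2) F) : Matrix (Fin 2) (Fin 2) F).mulVec) hc
  rw [coe_inv_mulVec, coe_inv_mulVec] at h3
  simpa [w] using congrFun h3 1

/-- The fixed vectors of a nontrivial element of `SL₂` lie on a line. -/
theorem fixed_on_line {g : SpecialLinearGroup (Fin 2) F} (hg : g ≠ 1) {e v : Fin 2 → F}
    (he : e ≠ 0) (hge : (g : Matrix (Fin 2) (Fin 2) F).mulVec e = e)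
    (hgv : (g : Matrix (Fin 2) (Fin 2) F).mulVec v = v) : ∃ c : F, v = c • e := by
  by_cases hd : e 0 * v 1 - e 1 * v 0 = 0
  · rcases eq_or_ne (e 0) 0 with h0 | h0
    · have h1 : e 1 ≠ 0 := fun h1 => he (by ext i; fin_cases i <;> assumption)
      refine ⟨v 1 / e 1, ?_⟩
      rw [h0, zero_mul, zero_sub, neg_eq_zero, mul_eq_zero, or_iff_right h1] at hd
      ext i
      fin_cases i <;> simp [h0, hd, h1]
    · refine ⟨v 0 / e 0, ?_⟩
      ext i
      fin_cases i
      · simp [h0]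
      · show v 1 = v 0 / e 0 * e 1
        field_simp
        linear_combination hd
  · exfalso
    refine hg ?_
    set B : Matrix (Fin 2) (Fin 2) F := !![e 0, v 0; e 1, v 1] with hB
    have hdet : IsUnit B.det := by
      rw [hB, det_fin_two_of]
      refine isUnit_iff_ne_zero.2 fun h => hd ?_
      linear_combination h
    have hgB : (g : Matrix (Fin 2) (Fin 2) F) * B = B := by
      have e1 := congrFun hge
      have e2 := congrFun hgv
      have a0 := e1 0
      have a1 := e1 1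
      have b0 := e2 0
      have b1 := e2 1
      simp only [mulVec, dotProduct, Fin.sum_univ_two] at a0 a1 b0 b1
      ext i j
      fin_cases i <;> fin_cases j <;> simp [hB, mul_apply, Fin.sum_univ_two, a0, a1, b0, b1]
    apply Subtype.ext
    have h4 : (g : Matrix (Fin 2) (Fin 2) F) * B * B⁻¹ = B * B⁻¹ := by rw [hgB]
    rwa [mul_nonsing_inv_cancel_right B _ hdet, mul_nonsing_inv B hdet] at h4

end SL

variable {G : Type*} [Group G] [Finite G] {p : ℕ} [Fact p.Prime]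

theorem card_map_mul_ker {G : Type*} [Group G] {H : Type*} [Group H] (f : G →* H) (K : Subgroup G) :
    Nat.card (K.map f) * Nat.card ↥(K ⊓ f.ker) = Nat.card K := by
  rw [Subgroup.card_eq_card_quotient_mul_card_subgroup (f.domRestrict K).ker]
  congr 1
  · rw [← MonoidHom.domRestrict_range]
    exact Nat.card_congr (QuotientGroup.quotientKerEquivRange (f.domRestrict K)).toEquiv.symm
  · rw [MonoidHom.ker_domRestrict, inf_comm, ← Subgroup.inf_subgroupOf_right]
    exact Nat.card_congr (Subgroup.subgroupOfEquivOfLe inf_le_right).toEquiv.symm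

/-- The torus of the generated group. -/
theorem exists_torus_element (hp2 : p ≠ 2) {V N M L R₀ A : Subgroup G}
    (h : Generated p V N M L R₀ A) (hV : IsElementaryAbelian p V)
    (hfaith : L ⊓ Subgroup.centralizer (V : Set G) = ⊥)
    (hmoved : ∃ z ∈ V, (∀ r ∈ R₀, r * z = z * r) ∧ ∃ x ∈ L, x * z ≠ z * x) :
    ∃ t ∈ L ⊓ M, ∃ m : ℕ, m.Coprime p ∧ t ^ m = 1 ∧
      (∀ w ∈ V ⊓ Subgroup.centralizer (A : Set G), w ∉ Subgroup.centralizer (L : Set G) →
        t * w ≠ w * t) ∧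
      ∀ a ∈ V ⊓ Subgroup.centralizer (A : Set G), ∀ b ∈ V ⊓ Subgroup.centralizer (A : Set G),
        a ∉ Subgroup.centralizer (L : Set G) → b ∉ Subgroup.centralizer (L : Set G) →
          ∃ k : ℕ, b⁻¹ * (t ^ k * a * (t ^ k)⁻¹) ∈ Subgroup.centralizer (L : Set G) := by
  classical
  have hOR : (Cfsg.pCore p ↥L).map L.subtype ≤ R₀ := h.pCore_le
  have hmv : MinParFF.Moved L V A ((Cfsg.pCore p ↥L).map L.subtype) := by
    obtain ⟨z, hz, hzR, x, hx, hxz⟩ := hmoved
    exact ⟨z, hz, fun a ha => hzR a (h.A_le ha), fun r hr => hzR r (hOR hr), x, hx, hxz⟩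
  obtain ⟨F, _, _, hF, ⟨iso⟩, -, hLV, -, ρ, ψ, hρr, hψs, hψker, hact⟩ :=
    (h.minimal hV hfaith hmoved).natural hmv
  haveI := hV.1
  set W := V ⊓ Subgroup.centralizer (A : Set G) with hW
  have hAL : A ≤ L := h.A_le.trans h.max.1
  set V₀ := V ⊓ Subgroup.centralizer (L : Set G) with hV₀
  have hker : ∀ u : ↥V, ψ u = 1 ↔ (u : G) ∈ Subgroup.centralizer (L : Set G) :=
    fun u => (hψker u).trans ⟨fun hu => hu.2, fun hu => ⟨u.2, hu⟩⟩
  have hV₀W : V₀ ≤ W := inf_le_inf_left _ (Subgroup.centralizer_le hAL)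
  -- `ρ` is injective
  haveI : Fintype ↥L := Fintype.ofFinite _
  have hρinj : Function.Injective ρ := by
    have hsur : Function.Surjective ρ := MonoidHom.range_eq_top.1 hρr
    exact ((Fintype.bijective_iff_surjective_and_card ρ).2
      ⟨hsur, Fintype.card_congr iso.toEquiv⟩).1
  -- conjugation formula
  have hconj : ∀ (g : ↥L) (u : ↥V), ∃ hgu : (g : G) * u * (g : G)⁻¹ ∈ V,
      Multiplicative.toAdd (ψ ⟨_, hgu⟩) =
        (ρ g : Matrix (Fin 2) (Fin 2) F).mulVec (Multiplicative.toAdd (ψ u)) := by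
    intro g u
    obtain ⟨w, hw, hw'⟩ := hact g u
    refine ⟨hw ▸ w.2, ?_⟩
    rwa [show (⟨(g : G) * u * (g : G)⁻¹, hw ▸ w.2⟩ : ↥V) = w from Subtype.ext hw.symm]
  -- the image of `W`
  set U := (W.subgroupOf V).map ψ with hU
  have hkeq : ψ.ker = V₀.subgroupOf V := by
    ext u
    exact (hker u).trans ⟨fun hu => ⟨u.2, hu⟩, fun hu => hu.2⟩
  have hcW : Nat.card U * Nat.card V₀ = Nat.card W := by
    rw [← Nat.card_congr (Subgroup.subgroupOfEquivOfLe (inf_le_left : W ≤ V)).toEquiv,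
      ← card_map_mul_ker ψ (W.subgroupOf V), hkeq, (inf_eq_right.2 (fun x hx => hV₀W hx) : W.subgroupOf V ⊓ V₀.subgroupOf V = V₀.subgroupOf V),
      Nat.card_congr (Subgroup.subgroupOfEquivOfLe (inf_le_left : V₀ ≤ V)).toEquiv]
  set q := Fintype.card F with hq
  have hcV : q * q * Nat.card V₀ = Nat.card V := by
    have h1 := card_map_mul_ker ψ (⊤ : Subgroup ↥V)
    rw [hkeq, top_inf_eq, Subgroup.map_top_of_surjective ψ hψs,
      Nat.card_congr (Subgroup.subgroupOfEquivOfLe (inf_le_left : V₀ ≤ V)).toEquiv,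
      Nat.card_congr Subgroup.topEquiv.toEquiv, Nat.card_congr Subgroup.topEquiv.toEquiv,
      Nat.card_congr Multiplicative.toAdd] at h1
    rw [← h1, Nat.card_eq_fintype_card (α := Fin 2 → F), Fintype.card_pi_const, hq, sq]
  have hq1 : 1 < q := Fintype.one_lt_card
  have hUge : q ≤ Nat.card U := by
    have h1 := h.off.bound
    rw [← hW, ← hcV, ← hcW, ← hF] at h1
    have h2 : q * (q * Nat.card V₀) ≤ q * (Nat.card U * Nat.card V₀) := by linarith
    exact Nat.le_of_mul_le_mul_right (Nat.le_of_mul_le_mul_left h2 (by omega)) Nat.card_pos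
  -- a nonzero vector fixed by `A`
  obtain ⟨⟨e', he'⟩, hene⟩ : ∃ e : U, e ≠ 1 := by
    haveI : Nontrivial U := Finite.one_lt_card_iff_nontrivial.1 (by omega)
    exact exists_ne 1
  set e := Multiplicative.toAdd e' with hedef
  have he : e ≠ 0 := fun h0 => hene (Subtype.ext (Multiplicative.toAdd.injective h0))
  have hfix : ∀ a : ↥L, (a : G) ∈ A → ∀ u : ↥V, (u : G) ∈ W →
      (ρ a : Matrix (Fin 2) (Fin 2) F).mulVec (Multiplicative.toAdd (ψ u)) =
        Multiplicative.toAdd (ψ u) := by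
    intro a ha u hu
    obtain ⟨hgu, hgu'⟩ := hconj a u
    rw [← hgu']
    congr 2
    refine Subtype.ext ?_
    show (a : G) * u * (a : G)⁻¹ = u
    rw [Subgroup.mem_centralizer_iff.1 hu.2 _ ha, mul_inv_cancel_right]
  obtain ⟨a₀, ha₀, ha₀1⟩ := A.bot_or_exists_ne_one.resolve_left h.off.ne
  have hρa₀ : ρ ⟨a₀, hAL ha₀⟩ ≠ 1 := fun e1 =>
    ha₀1 (congrArg Subtype.val (hρinj (e1.trans (map_one ρ).symm)))
  have hline : ∀ u : ↥V, (u : G) ∈ W → ∃ c : F, Multiplicative.toAdd (ψ u) = c • e := by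
    intro u hu
    obtain ⟨u₀, hu₀, hu₀e⟩ := he'
    refine fixed_on_line hρa₀ he ?_ (hfix _ ha₀ u hu)
    rw [hedef, ← hu₀e]
    exact hfix _ ha₀ u₀ hu₀
  -- and conversely
  have hback : ∀ u : ↥V, (∃ c : F, Multiplicative.toAdd (ψ u) = c • e) → (u : G) ∈ W := by
    rintro u ⟨c, hc⟩
    let lineSet : Set (Multiplicative (Fin 2 → F)) := Set.range fun c : F => Multiplicative.ofAdd (c • e)
    have hsub : (U : Set (Multiplicative (Fin 2 → F))) ⊆ lineSet := by
      rintro _ ⟨w, hw, rfl⟩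
      obtain ⟨d, hd⟩ := hline w hw
      exact ⟨d, by show Multiplicative.ofAdd (d • e) = _; rw [← hd]; rfl⟩
    have heq : (U : Set (Multiplicative (Fin 2 → F))) = lineSet := by
      refine Set.eq_of_subset_of_ncard_le hsub ?_ (Set.toFinite _)
      refine (Set.ncard_le_ncard_of_injOn (fun x => x) (fun x hx => hx) (fun _ _ _ _ h => h)
        (Set.toFinite _)).trans ?_
      refine le_trans ?_ hUge |>.trans_eq ?_
      · show (Set.range _).ncard ≤ q
        rw [← Set.image_univ]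
        exact (Set.ncard_image_le).trans (by simp [hq, Set.ncard_univ, Nat.card_eq_fintype_card])
      · exact (Nat.card_coe_set_eq _)
    have hmem : ψ u ∈ U := by
      show ψ u ∈ (U : Set (Multiplicative (Fin 2 → F)))
      rw [heq]
      exact ⟨c, by show Multiplicative.ofAdd (c • e) = _; rw [← hc]; rfl⟩
    obtain ⟨w, hw, hwu⟩ := hmem
    have h1 : ψ (w⁻¹ * u) = 1 := by rw [map_mul, map_inv, hwu, inv_mul_cancel]
    have h2 : (w : G)⁻¹ * u ∈ W := hV₀W ⟨(w⁻¹ * u : ↥V).2, (hker _).1 h1⟩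
    simpa using W.mul_mem hw h2
  -- the torus element
  obtain ⟨u, hu⟩ := IsCyclic.exists_monoid_generator (α := Fˣ)
  obtain ⟨s, hse, hspow⟩ := exists_torus e he u
  obtain ⟨t, ht⟩ := MonoidHom.range_eq_top.1 hρr s
  have horder : u ^ (q - 1) = 1 := by
    rw [hq, ← Fintype.card_units]
    exact pow_card_eq_one
  have ht1 : t ^ (q - 1) = 1 := hρinj (by rw [map_pow, ht, hspow _ horder, map_one])
  have hcop : (q - 1).Coprime p := by
    refine Nat.Coprime.symm ((Fact.out : p.Prime).coprime_iff_not_dvd.2 fun hdvd => ?_)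
    obtain ⟨k, hk⟩ := IsPGroup.iff_card.1 (h.max.2.1.to_le h.A_le)
    have hqk : q = p ^ k := hF.trans hk
    have hk0 : k ≠ 0 := by rintro rfl; simp at hqk; omega
    have hpq : p ∣ q := hqk ▸ dvd_pow_self p hk0
    have h2 := Nat.dvd_sub hpq hdvd
    rw [show q - (q - 1) = 1 by omega] at h2
    exact (Fact.out : p.Prime).one_lt.ne' (Nat.dvd_one.1 h2)
  have hu1 : (u : F) ≠ 1 := by
    intro h1
    have h2 : Fintype.card Fˣ ≤ 1 := by
      refine Fintype.card_le_one_iff.2 fun a b => ?_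
      obtain ⟨i, rfl⟩ := hu a
      obtain ⟨j, rfl⟩ := hu b
      rw [show u = 1 from Units.ext h1]
      simp
    rw [Fintype.card_units] at h2
    obtain ⟨k, hk⟩ := IsPGroup.iff_card.1 (h.max.2.1.to_le h.A_le)
    have hqk : q = p ^ k := hF.trans hk
    have hk0 : k ≠ 0 := by rintro rfl; simp at hqk; omega
    have hpq : p ≤ q := hqk ▸ Nat.le_self_pow hk0 p
    have hp3 : 2 ≤ p := (Fact.out : p.Prime).two_le
    omega
  -- `t` normalises `W`, hence lies in `M`
  have hnormW : ∀ g : ↥L, (∀ c : F, ∃ d : F, (ρ g : Matrix (Fin 2) (Fin 2) F).mulVec (c • e) = d • e) →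
      (g : G) ∈ Subgroup.normalizer (W : Set G) := by
    intro g hg
    refine WeakClosureJ.mem_normalizer_of_cj_le ?_
    rintro _ ⟨w, hw, rfl⟩
    obtain ⟨hgu, hgu'⟩ := hconj g ⟨w, hw.1⟩
    refine hback ⟨_, hgu⟩ ?_
    obtain ⟨c, hc⟩ := hline ⟨w, hw.1⟩ hw
    rw [hgu', hc]
    exact hg c
  have hKM : L ⊓ Subgroup.normalizer (W : Set G) ≤ M := by
    refine h.below _ inf_le_left (fun e1 => ?_) fun a ha => ⟨hAL ha, ?_⟩
    · obtain ⟨g, hg⟩ := exists_moving e he
      obtain ⟨g', hg'⟩ := MonoidHom.range_eq_top.1 hρr g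
      obtain ⟨u₀, hu₀, hu₀e⟩ := he'
      obtain ⟨hgu, hgu'⟩ := hconj g' u₀
      obtain ⟨c, hc⟩ := hline ⟨_, hgu⟩
        ((Subgroup.mem_normalizer_iff.1 (inf_eq_left.1 e1 g'.2) _).1 hu₀)
      refine hg c ?_
      rw [← hc, hgu', hg', hedef, ← hu₀e]
    · refine WeakClosureJ.mem_normalizer_of_cj_le ?_
      rintro _ ⟨w, hw, rfl⟩
      show a * w * a⁻¹ ∈ W
      rwa [Subgroup.mem_centralizer_iff.1 hw.2 _ ha, mul_inv_cancel_right]
  have htM : (t : G) ∈ L ⊓ M := ⟨t.2, hKM ⟨t.2, hnormW t fun c => ⟨c * u, by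
    rw [ht, mulVec_smul, hse, smul_smul]⟩⟩⟩
  refine ⟨t, htM, q - 1, hcop, congrArg Subtype.val ht1, ?_, ?_⟩
  · intro w hw hwL htw
    obtain ⟨c, hc⟩ := hline ⟨w, hw.1⟩ hw
    obtain ⟨hgu, hgu'⟩ := hconj t ⟨w, hw.1⟩
    have e2 : (⟨(t : G) * w * (t : G)⁻¹, hgu⟩ : ↥V) = ⟨w, hw.1⟩ :=
      Subtype.ext (by simp [htw])
    rw [e2, ht, hc, mulVec_smul, hse, smul_smul] at hgu'
    refine hwL ((hker ⟨w, hw.1⟩).1 (Multiplicative.toAdd.injective ?_))
    rw [hc, toAdd_one]
    have h3 : (c - c * (u : F)) • e = 0 := by rw [sub_smul, ← hgu', sub_self]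
    rcases smul_eq_zero.1 h3 with h4 | h4
    · have h5 : c * (1 - (u : F)) = 0 := by linear_combination h4
      rcases mul_eq_zero.1 h5 with h6 | h6
      · rw [h6, zero_smul]
      · exact absurd (sub_eq_zero.1 h6).symm hu1
    · exact absurd h4 he
  · intro a ha b hb haL hbL
    obtain ⟨c, hc⟩ := hline ⟨a, ha.1⟩ ha
    obtain ⟨d, hd⟩ := hline ⟨b, hb.1⟩ hb
    have hc0 : c ≠ 0 := fun h0 => haL ((hker ⟨a, ha.1⟩).1
      (Multiplicative.toAdd.injective (by rw [hc, h0, zero_smul, toAdd_one])))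
    have hd0 : d ≠ 0 := fun h0 => hbL ((hker ⟨b, hb.1⟩).1
      (Multiplicative.toAdd.injective (by rw [hd, h0, zero_smul, toAdd_one])))
    obtain ⟨k, hk⟩ := hu (Units.mk0 (d / c) (div_ne_zero hd0 hc0))
    refine ⟨k, ?_⟩
    obtain ⟨hgu, hgu'⟩ := hconj (t ^ k) ⟨a, ha.1⟩
    have hspk : ∀ j : ℕ, ((s ^ j : SpecialLinearGroup (Fin 2) F) : Matrix (Fin 2) (Fin 2) F).mulVec e =
        ((u : F) ^ j) • e := by
      intro j
      induction j with
      | zero => simp
      | succ j ih =>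
        rw [pow_succ, Matrix.SpecialLinearGroup.coe_mul, ← mulVec_mulVec, hse, mulVec_smul, ih, smul_smul,
          pow_succ']
    have hk' : (u : F) ^ k = d / c := by
      have := congrArg Units.val hk
      simpa using this
    rw [map_pow, ht, hc, mulVec_smul, hspk, smul_smul, hk', mul_div_cancel₀ _ hc0, ← hd] at hgu'
    have h1 := Multiplicative.toAdd.injective hgu'
    have h2 : ψ ((⟨b, hb.1⟩ : ↥V)⁻¹ * ⟨_, hgu⟩) = 1 := by rw [map_mul, map_inv, h1, inv_mul_cancel]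
    simpa using (hker _).1 h2

end CfsgLib.TorusClosure
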